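import Mathlib.NumberTheory.Multiplicity
import Mathlib.Data.ZMod.Basic
import Mathlib.Data.ZMod.Units
import Mathlib.RingTheory.ZMod
import Mathlib.GroupTheory.QuotientGroup.Basic
import Mathlib.Algebra.Ring.GeomSum
import Mathlib.Tactic.LinearCombination

/-!
Arithmetic in `ZMod (p ^ N)`: geometric sums of elements congruent to one, valuations.
-/

set_option autoImplicit false

namespace Cfsg.Agent.MetacyclicP

open Finset

/-- The geometric sum `1 + x + ... + x^(t-1)`. -/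
def gsum {R : Type*} [CommRing R] (x : R) (t : ℕ) : R := ∑ i ∈ range t, x ^ i

theorem gsum_add {R : Type*} [CommRing R] (x : R) (s t : ℕ) :
    gsum x (s + t) = gsum x s + x ^ s * gsum x t := by
  simp [gsum, sum_range_add, pow_add, mul_sum]

theorem gsum_mul {R : Type*} [CommRing R] (x : R) (s t : ℕ) :
    gsum x (s * t) = gsum x s * gsum (x ^ s) t := by
  induction t with
  | zero => simp [gsum]
  | succ t ih =>
      rw [Nat.mul_succ, gsum_add, ih]
      simp only [gsum, sum_range_succ, ← pow_mul]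
      ring

theorem gsum_mul_sub_one {R : Type*} [CommRing R] (x : R) (t : ℕ) :
    gsum x t * (x - 1) = x ^ t - 1 := geom_sum_mul x t

theorem map_gsum {R S : Type*} [CommRing R] [CommRing S] (f : R →+* S) (x : R) (t : ℕ) :
    f (gsum x t) = gsum (f x) t := by
  simp [gsum, map_sum, map_pow]

theorem gsum_zero {R : Type*} [CommRing R] (x : R) : gsum x 0 = 0 := by simp [gsum]

theorem gsum_one {R : Type*} [CommRing R] (x : R) : gsum x 1 = 1 := by simp [gsum]

theorem gsum_succ {R : Type*} [CommRing R] (x : R) (t : ℕ) : gsum x (t + 1) = 1 + x * gsum x t := by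
  rw [add_comm, gsum_add, gsum_one, pow_one]

variable {p : ℕ} [hp : Fact p.Prime] {N : ℕ}

theorem natCast_pow_eq_zero : ((p : ZMod (p ^ N))) ^ N = 0 := by
  rw [← Nat.cast_pow, ZMod.natCast_self]

theorem isUnit_of_dvd_sub_one {c : ZMod (p ^ N)} (h : (p : ZMod (p ^ N)) ∣ c - 1) : IsUnit c := by
  obtain ⟨y, hy⟩ := h
  have hnil : IsNilpotent ((p : ZMod (p ^ N)) * y) :=
    ⟨N, by rw [mul_pow, natCast_pow_eq_zero, zero_mul]⟩
  have := hnil.isUnit_one_add
  rwa [← hy, add_sub_cancel] at this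

theorem isUnit_natCast_of_coprime {q : ℕ} (h : ¬ p ∣ q) : IsUnit (q : ZMod (p ^ N)) := by
  rw [ZMod.isUnit_iff_coprime]
  exact Nat.Coprime.pow_right _ ((hp.out.coprime_iff_not_dvd.mpr h).symm)

theorem isUnit_intCast_of_not_dvd {q : ℤ} (h : ¬ (p : ℤ) ∣ q) : IsUnit (q : ZMod (p ^ N)) := by
  have hn : ¬ p ∣ q.natAbs := fun hd => h (Int.natCast_dvd.mpr hd)
  rcases Int.natAbs_eq q with hq | hq <;> rw [hq]
  · simpa using isUnit_natCast_of_coprime (N := N) hn
  · simpa using (isUnit_natCast_of_coprime (N := N) hn).neg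

theorem dvd_pow_sub_one {c : ZMod (p ^ N)} (h : (p : ZMod (p ^ N)) ∣ c - 1) (i : ℕ) :
    (p : ZMod (p ^ N)) ∣ c ^ i - 1 := h.trans (sub_one_dvd_pow_sub_one c i)

theorem gsum_eq_mul_unit (hodd : p ≠ 2) : ∀ (t : ℕ) {x : ZMod (p ^ N)}, (p : ZMod (p ^ N)) ∣ x - 1 →
    ∃ e : ZMod (p ^ N), (p : ZMod (p ^ N)) ∣ e - 1 ∧ gsum x t = t * e := by
  intro t
  induction t using Nat.strong_induction_on with
  | _ t ih =>
  intro x hx
  rcases Nat.lt_or_ge t 2 with ht | ht
  · refine ⟨1, by simp, ?_⟩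
    interval_cases t <;> simp [gsum]
  obtain ⟨q, hq, s, rfl⟩ : ∃ q, q.Prime ∧ ∃ s, t = q * s :=
    ⟨t.minFac, Nat.minFac_prime (by omega), t.minFac_dvd⟩
  have hs : s < q * s := by
    have := hq.two_le
    have h0 : 0 < s := Nat.pos_of_ne_zero (fun h => by simp [h] at ht)
    calc s = 1 * s := (one_mul s).symm
      _ < q * s := Nat.mul_lt_mul_of_pos_right (by omega) h0
  obtain ⟨e₂, he₂, hes⟩ := ih s hs (dvd_pow_sub_one hx q)
  obtain ⟨e₁, he₁, heq⟩ : ∃ e₁ : ZMod (p ^ N), (p : ZMod (p ^ N)) ∣ e₁ - 1 ∧ gsum x q = q * e₁ := by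
    by_cases hqp : q = p
    · subst hqp
      obtain ⟨b, hb⟩ := hx
      have hxb : x = 1 + (q : ZMod (q ^ N)) * b := by rw [← hb]; ring
      obtain ⟨c, hc⟩ := odd_sq_dvd_geom_sum₂_sub (R := ZMod (q ^ N)) 1 b
        (hq.odd_of_ne_two hodd)
      refine ⟨1 + (q : ZMod (q ^ N)) * c, ⟨c, by ring⟩, ?_⟩
      have : gsum x q = ∑ i ∈ range q, (1 + (q : ZMod (q ^ N)) * b) ^ i * 1 ^ (q - 1 - i) := by
        simp [gsum, hxb]
      rw [this, sub_eq_iff_eq_add.mp hc]
      ring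
    · have hu : IsUnit (q : ZMod (p ^ N)) := isUnit_natCast_of_coprime
        (fun h => hqp ((Nat.prime_dvd_prime_iff_eq hp.out hq).mp h).symm)
      obtain ⟨v, hv⟩ := hu
      refine ⟨↑v⁻¹ * gsum x q, ?_, ?_⟩
      · have hsub : (p : ZMod (p ^ N)) ∣ gsum x q - q := by
          have : gsum x q - q = ∑ i ∈ range q, (x ^ i - 1) := by
            simp [gsum, sum_sub_distrib]
          rw [this]
          exact Finset.dvd_sum fun i _ => dvd_pow_sub_one hx i
        have : (↑v⁻¹ : ZMod (p ^ N)) * gsum x q - 1 = ↑v⁻¹ * (gsum x q - q) := by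
          rw [mul_sub, ← hv, Units.inv_mul]
        rw [this]
        exact hsub.mul_left _
      · rw [← hv, ← mul_assoc, Units.mul_inv, one_mul]
  refine ⟨e₁ * e₂, ?_, ?_⟩
  · have : e₁ * e₂ - 1 = e₁ * (e₂ - 1) + (e₁ - 1) := by ring
    rw [this]
    exact dvd_add (he₂.mul_left _) he₁
  · rw [gsum_mul, heq, hes]; push_cast; ring

theorem gsum_eq_zero_iff (hodd : p ≠ 2) {x : ZMod (p ^ N)} (hx : (p : ZMod (p ^ N)) ∣ x - 1)
    (t : ℕ) : gsum x t = 0 ↔ p ^ N ∣ t := by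
  obtain ⟨e, he, ht⟩ := gsum_eq_mul_unit hodd t hx
  rw [ht, (isUnit_of_dvd_sub_one he).mul_left_eq_zero, ZMod.natCast_eq_zero_iff]

theorem gsum_surjective (hodd : p ≠ 2) {x : ZMod (p ^ N)} (hx : (p : ZMod (p ^ N)) ∣ x - 1)
    (y : ZMod (p ^ N)) : ∃ t : ℕ, gsum x t = y := by
  have hinj : Function.Injective (fun t : Fin (p ^ N) => gsum x t) := by
    have key : ∀ s t : ℕ, s ≤ t → t < p ^ N → gsum x s = gsum x t → s = t := by
      intro s t hst htN he
      obtain ⟨d, rfl⟩ := Nat.exists_eq_add_of_le hst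
      rw [gsum_add] at he
      have hz : gsum x d = 0 := ((isUnit_of_dvd_sub_one hx).pow s).mul_right_eq_zero.mp
        (by linear_combination -he)
      have := (gsum_eq_zero_iff hodd hx d).mp hz
      have := Nat.eq_zero_of_dvd_of_lt this (by omega)
      omega
    intro s t he
    rcases le_total s.val t.val with h | h
    · exact Fin.ext (key _ _ h t.isLt he)
    · exact Fin.ext (key _ _ h s.isLt he.symm).symm
  have hbij : Function.Bijective (fun t : Fin (p ^ N) => gsum x t) :=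
    (Nat.bijective_iff_injective_and_card _).mpr ⟨hinj, by simp⟩
  obtain ⟨t, ht⟩ := hbij.2 y
  exact ⟨t, ht⟩

theorem exists_pow_mul_unit (x : ZMod (p ^ N)) :
    ∃ (v : ℕ) (u : ZMod (p ^ N)), v ≤ N ∧ IsUnit u ∧ x = (p : ZMod (p ^ N)) ^ v * u := by
  haveI : NeZero (p ^ N) := ⟨(pow_pos hp.out.pos N).ne'⟩
  rcases eq_or_ne x.val 0 with h0 | h0
  · refine ⟨N, 1, le_rfl, isUnit_one, ?_⟩
    rw [natCast_pow_eq_zero, zero_mul, ← ZMod.natCast_zmod_val x, h0, Nat.cast_zero]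
  · obtain ⟨v, w, hw, hvw⟩ := Nat.exists_eq_pow_mul_and_not_dvd h0 p hp.out.ne_one
    refine ⟨v, (w : ZMod (p ^ N)), ?_, isUnit_natCast_of_coprime hw, ?_⟩
    · by_contra hv
      push Not at hv
      have hlt := x.val_lt
      have : p ^ N ≤ p ^ v * w := by
        calc p ^ N ≤ p ^ v := Nat.pow_le_pow_right hp.out.pos hv.le
          _ ≤ p ^ v * w := Nat.le_mul_of_pos_right _ (Nat.pos_of_ne_zero fun h => hw (h ▸ dvd_zero p))
      omega
    · conv_lhs => rw [← ZMod.natCast_zmod_val x, hvw]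
      push_cast; rfl

theorem pow_dvd_pow_mul_iff {a b : ℕ} (ha : a ≤ N) {u : ZMod (p ^ N)} (hu : IsUnit u) :
    (p : ZMod (p ^ N)) ^ a ∣ (p : ZMod (p ^ N)) ^ b * u ↔ a ≤ b := by
  rw [hu.dvd_mul_right]
  refine ⟨fun h => ?_, pow_dvd_pow _⟩
  have := map_dvd (ZMod.castHom (Nat.pow_dvd_pow p ha) (ZMod (p ^ a))) h
  rw [map_pow, map_pow, map_natCast, natCast_pow_eq_zero, zero_dvd_iff, ← Nat.cast_pow,
    ZMod.natCast_eq_zero_iff] at this
  exact (Nat.pow_dvd_pow_iff_le_right hp.out.one_lt).mp this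

theorem pow_dvd_natCast_iff {a : ℕ} (ha : a ≤ N) (t : ℕ) :
    (p : ZMod (p ^ N)) ^ a ∣ (t : ZMod (p ^ N)) ↔ p ^ a ∣ t := by
  constructor
  · intro h
    have := map_dvd (ZMod.castHom (Nat.pow_dvd_pow p ha) (ZMod (p ^ a))) h
    rw [map_pow, map_natCast, map_natCast, natCast_pow_eq_zero, zero_dvd_iff,
      ZMod.natCast_eq_zero_iff] at this
    exact this
  · intro h
    simpa using (Nat.cast_dvd_cast (α := ZMod (p ^ N)) h)

theorem pow_dvd_intCast_iff {a : ℕ} (ha : a ≤ N) (t : ℤ) :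
    (p : ZMod (p ^ N)) ^ a ∣ (t : ZMod (p ^ N)) ↔ (p : ℤ) ^ a ∣ t := by
  constructor
  · intro h
    have := map_dvd (ZMod.castHom (Nat.pow_dvd_pow p ha) (ZMod (p ^ a))) h
    rw [map_pow, map_intCast, map_natCast, natCast_pow_eq_zero, zero_dvd_iff,
      ZMod.intCast_zmod_eq_zero_iff_dvd] at this
    exact_mod_cast this
  · rintro ⟨c, rfl⟩
    push_cast
    exact dvd_mul_right _ _

theorem pow_mul_eq_zero_iff {b : ℕ} (hb : b ≤ N) (x : ZMod (p ^ N)) :
    (p : ZMod (p ^ N)) ^ b * x = 0 ↔ (p : ZMod (p ^ N)) ^ (N - b) ∣ x := by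
  obtain ⟨v, u, hv, hu, rfl⟩ := exists_pow_mul_unit x
  rw [pow_dvd_pow_mul_iff (Nat.sub_le _ _) hu, ← mul_assoc, ← pow_add, hu.mul_left_eq_zero]
  constructor
  · intro h
    have h' : (p : ZMod (p ^ N)) ^ N ∣ (p : ZMod (p ^ N)) ^ (b + v) * 1 := by
      rw [h, zero_mul]; exact dvd_zero _
    have := (pow_dvd_pow_mul_iff le_rfl isUnit_one).mp h'
    omega
  · intro h
    obtain ⟨c, hc⟩ := Nat.exists_eq_add_of_le (show N ≤ b + v by omega)
    rw [hc, pow_add, natCast_pow_eq_zero, zero_mul]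

theorem card_pow_dvd {a : ℕ} (ha : a ≤ N) :
    Nat.card {x : ZMod (p ^ N) // (p : ZMod (p ^ N)) ^ a ∣ x} = p ^ (N - a) := by
  set f := (ZMod.castHom (Nat.pow_dvd_pow p ha) (ZMod (p ^ a))).toAddMonoidHom
  have hsurj : Function.Surjective f := ZMod.castHom_surjective (Nat.pow_dvd_pow p ha)
  have hker : ∀ x, x ∈ f.ker ↔ (p : ZMod (p ^ N)) ^ a ∣ x := by
    intro x
    obtain ⟨v, u, hv, hu, rfl⟩ := exists_pow_mul_unit x
    rw [pow_dvd_pow_mul_iff ha hu]
    change ZMod.castHom (Nat.pow_dvd_pow p ha) (ZMod (p ^ a)) ((p : ZMod (p ^ N)) ^ v * u) = 0 ↔ _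
    rw [map_mul, (hu.map _).mul_left_eq_zero, map_pow, map_natCast, ← Nat.cast_pow,
      ZMod.natCast_eq_zero_iff]
    exact Nat.pow_dvd_pow_iff_le_right hp.out.one_lt
  have h1 := AddSubgroup.card_eq_card_quotient_mul_card_addSubgroup f.ker
  rw [Nat.card_congr (QuotientAddGroup.quotientKerEquivOfSurjective f hsurj).toEquiv,
    Nat.card_zmod, Nat.card_zmod] at h1
  have h2 : Nat.card f.ker = p ^ (N - a) := by
    have : p ^ a * p ^ (N - a) = p ^ a * Nat.card f.ker := by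
      rw [← pow_add, Nat.add_sub_cancel' ha]; exact h1
    exact (Nat.eq_of_mul_eq_mul_left (pow_pos hp.out.pos a) this).symm
  rw [← h2]
  exact Nat.card_congr (Equiv.subtypeEquivRight fun x => (hker x).symm)

end Cfsg.Agent.MetacyclicP
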