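import Cfsg.Agent.MetacyclicP.Data
import Mathlib.GroupTheory.Subgroup.Centralizer
import Mathlib.GroupTheory.Commutator.Basic
import Mathlib.GroupTheory.Index

/-!
The coordinate map `φ : G → (ZMod (p^n))²` of a metacyclic `p`-group (`p` odd): it kills exactly the
centre, is a crossed homomorphism with scalar twisting, and `g, h` commute iff `det (φ g) (φ h) = 0`.
-/

set_option autoImplicit false

namespace Cfsg.Agent.MetacyclicP

open Subgroup

/-- The ring of coordinates. -/
abbrev Coord {G : Type*} [Group G] {p : ℕ} (D : Data p G) : Type := ZMod (p ^ D.n)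

/-- The coordinate plane. -/
abbrev Plane {G : Type*} [Group G] {p : ℕ} (D : Data p G) : Type := Coord D × Coord D

/-- The determinant form. -/
def det2 {R : Type*} [CommRing R] (v w : R × R) : R := v.2 * w.1 - v.1 * w.2

variable {G : Type*} [Group G] {p : ℕ} [hp : Fact p.Prime] (D : Data p G)

theorem m_eq : D.m - D.n + D.n = D.m := Nat.sub_add_cancel D.hnm

theorem r_sub_one_dvd : (p : Coord D) ∣ (D.r : Coord D) - 1 := by
  by_cases hn : D.n = 0
  · haveI : Subsingleton (Coord D) := by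
      rw [Coord, hn, pow_zero]; infer_instance
    exact ⟨0, Subsingleton.elim _ _⟩
  · have := D.hlt hn
    rw [D.hr, show D.m - D.n = (D.m - D.n - 1) + 1 by omega, pow_succ']
    push_cast
    exact ⟨(p : Coord D) ^ (D.m - D.n - 1) * (D.u : Coord D), by ring⟩

theorem zpow_a_eq_iff {x y : ℤ} : D.a ^ x = D.a ^ y ↔ (p : ℤ) ^ D.m ∣ y - x := by
  rw [zpow_eq_zpow_iff_modEq, D.hord, Nat.cast_pow, Int.modEq_iff_dvd]

theorem mul_formula (i k : ℤ) (j l : ℕ) :
    (D.a ^ i * D.b ^ j) * (D.a ^ k * D.b ^ l) = D.a ^ (i + D.r ^ j * k) * D.b ^ (j + l) := by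
  rw [zpow_add, ← conj_zpow_iter D.hconj k j, pow_add]
  group

theorem commute_iff (i k : ℤ) (j l : ℕ) :
    Commute (D.a ^ i * D.b ^ j) (D.a ^ k * D.b ^ l) ↔
      det2 ((i : Coord D), gsum (D.r : Coord D) j) ((k : Coord D), gsum (D.r : Coord D) l) = 0 := by
  unfold Commute SemiconjBy
  rw [mul_formula, mul_formula, add_comm l j, mul_left_inj, zpow_a_eq_iff]
  have hj := gsum_mul_sub_one D.r j
  have hl := gsum_mul_sub_one D.r l
  have hr : D.r - 1 = (p : ℤ) ^ (D.m - D.n) * D.u := by rw [D.hr]; ring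
  rw [hr] at hj hl
  have hdiff : k + D.r ^ l * i - (i + D.r ^ j * k) =
      (p : ℤ) ^ (D.m - D.n) * (D.u * (gsum D.r l * i - gsum D.r j * k)) := by
    linear_combination (-i) * hl + k * hj
  have hpz : ((p : ℤ) ^ (D.m - D.n)) ≠ 0 := pow_ne_zero _ (by exact_mod_cast hp.out.ne_zero)
  rw [hdiff]
  have hpm : (p : ℤ) ^ D.m = (p : ℤ) ^ (D.m - D.n) * (p : ℤ) ^ D.n := by
    rw [← pow_add, m_eq]
  rw [hpm, mul_dvd_mul_iff_left hpz]
  rw [← Nat.cast_pow, ← ZMod.intCast_zmod_eq_zero_iff_dvd, Int.cast_mul,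
    (isUnit_intCast_of_not_dvd D.hu).mul_right_eq_zero]
  push_cast
  rw [map_gsum' D.r l, map_gsum' D.r j]
  simp only [det2]
  constructor <;> intro h <;> linear_combination -h
where
  map_gsum' : ∀ (x : ℤ) (t : ℕ), ((gsum x t : ℤ) : Coord D) = gsum (x : Coord D) t :=
    fun x t => map_gsum (Int.castRingHom (Coord D)) x t

theorem rep_unique {i k : ℤ} {j l : ℕ} (hp2 : p ≠ 2) (h : D.a ^ i * D.b ^ j = D.a ^ k * D.b ^ l) :
    ((i : Coord D), gsum (D.r : Coord D) j) = ((k : Coord D), gsum (D.r : Coord D) l) := by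
  wlog hle : l ≤ j generalizing i j k l
  · exact (this h.symm (le_of_not_ge hle)).symm
  obtain ⟨d, rfl⟩ := Nat.exists_eq_add_of_le hle
  rw [add_comm l d, pow_add, ← mul_assoc, mul_left_inj] at h
  have hd : D.b ^ d = D.a ^ (k - i) := by rw [zpow_sub, (Commute.zpow_zpow_self D.a k i).inv_right.eq, ← h]; group
  have h1 := (commute_iff D 0 1 d 0).mp (by
    simp only [zpow_zero, one_mul, pow_zero, mul_one]
    rw [hd]
    exact (Commute.refl D.a).zpow_zpow _ _)
  have h2 := (commute_iff D (k - i) 0 0 1).mp (by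
    simp only [zpow_zero, one_mul, pow_zero, mul_one]
    rw [← hd]
    exact (Commute.refl D.b).pow_pow _ _)
  simp only [det2, gsum_zero, gsum_one, Int.cast_zero, Int.cast_one] at h1 h2
  have hgd : gsum (D.r : Coord D) d = 0 := by linear_combination h1
  ext
  · push_cast at h2
    change (i : Coord D) = (k : Coord D)
    linear_combination h2
  · change gsum (D.r : Coord D) (l + d) = gsum (D.r : Coord D) l
    rw [gsum_add, hgd, mul_zero, add_zero]

/-- The coordinates of an element. -/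
noncomputable def phi (g : G) : Plane D :=
  (((Classical.choose (D.hgen g) : ℤ) : Coord D),
    gsum (D.r : Coord D) (Classical.choose (Classical.choose_spec (D.hgen g))))

theorem exists_rep (g : G) : ∃ (i : ℤ) (j : ℕ), g = D.a ^ i * D.b ^ j ∧
    phi D g = ((i : Coord D), gsum (D.r : Coord D) j) :=
  ⟨_, _, Classical.choose_spec (Classical.choose_spec (D.hgen g)), rfl⟩

variable (hp2 : p ≠ 2)
include hp2

theorem phi_apply (i : ℤ) (j : ℕ) :
    phi D (D.a ^ i * D.b ^ j) = ((i : Coord D), gsum (D.r : Coord D) j) := by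
  obtain ⟨i', j', h, h'⟩ := exists_rep D (D.a ^ i * D.b ^ j)
  rw [h']
  exact (rep_unique D hp2 h).symm

theorem phi_one : phi D (1 : G) = 0 := by
  have h := phi_apply D hp2 0 0
  simp [gsum_zero] at h
  exact h

theorem phi_a_zpow (i : ℤ) : phi D (D.a ^ i) = ((i : Coord D), 0) := by
  simpa [gsum_zero] using phi_apply D hp2 i 0

theorem phi_b_pow (j : ℕ) : phi D (D.b ^ j) = (0, gsum (D.r : Coord D) j) := by
  simpa using phi_apply D hp2 0 j

omit hp2 in
theorem commute_iff_det (g h : G) : Commute g h ↔ det2 (phi D g) (phi D h) = 0 := by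
  obtain ⟨i, j, hg, hg'⟩ := exists_rep D g
  obtain ⟨k, l, hh, hh'⟩ := exists_rep D h
  rw [hg', hh', hg, hh]
  exact commute_iff D i k j l

theorem phi_mul_exists (g : G) : ∃ c : Coord D, (p : Coord D) ∣ c - 1 ∧
    ∀ h : G, phi D (g * h) = phi D g + c • phi D h := by
  obtain ⟨i, j, hg, hg'⟩ := exists_rep D g
  refine ⟨(D.r : Coord D) ^ j, dvd_pow_sub_one (r_sub_one_dvd D) j, fun h => ?_⟩
  obtain ⟨k, l, hh, hh'⟩ := exists_rep D h
  rw [hg', hh', hg, hh, mul_formula, phi_apply D hp2, gsum_add]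
  ext
  · simp
  · simp

theorem phi_pow (g : G) : ∃ c : Coord D, (p : Coord D) ∣ c - 1 ∧
    (∀ h : G, phi D (g * h) = phi D g + c • phi D h) ∧
    ∀ t : ℕ, phi D (g ^ t) = gsum c t • phi D g := by
  obtain ⟨c, hc, hmul⟩ := phi_mul_exists D hp2 g
  refine ⟨c, hc, hmul, fun t => ?_⟩
  induction t with
  | zero => simp [gsum_zero, phi_one D hp2]
  | succ t ih =>
      rw [pow_succ', hmul, ih, gsum_succ, add_smul, one_smul, mul_smul]

theorem phi_surjective : Function.Surjective (phi D) := by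
  intro v
  obtain ⟨i, hi⟩ := ZMod.intCast_surjective v.1
  obtain ⟨j, hj⟩ := gsum_surjective hp2 (r_sub_one_dvd D) v.2
  exact ⟨D.a ^ i * D.b ^ j, by rw [phi_apply D hp2, hi, hj]⟩

theorem phi_eq_zero_iff (g : G) : phi D g = 0 ↔ g ∈ center G := by
  rw [mem_center_iff]
  constructor
  · intro h x
    exact ((commute_iff_det D x g).mpr (by simp [det2, h])).eq
  · intro h
    obtain ⟨x, hx⟩ := phi_surjective D hp2 (1, 0)
    obtain ⟨y, hy⟩ := phi_surjective D hp2 (0, 1)
    have e1 := (commute_iff_det D x g).mp (h x)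
    have e2 := (commute_iff_det D y g).mp (h y)
    rw [hx] at e1
    rw [hy] at e2
    simp only [det2] at e1 e2
    ext
    · change (phi D g).1 = 0; linear_combination e2
    · change (phi D g).2 = 0; linear_combination -e1

theorem phi_eq_iff (g h : G) : phi D g = phi D h ↔ g⁻¹ * h ∈ center G := by
  obtain ⟨c, hc, hmul⟩ := phi_mul_exists D hp2 g
  have h1 := hmul (g⁻¹ * h)
  rw [mul_inv_cancel_left] at h1
  rw [← phi_eq_zero_iff D hp2, h1, left_eq_add, smul_eq_zero_iff_eq' (isUnit_of_dvd_sub_one hc)]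
where
  smul_eq_zero_iff_eq' : ∀ {c : Coord D} (_ : IsUnit c) {v : Plane D}, c • v = 0 ↔ v = 0 := by
    intro c hc v
    exact hc.smul_eq_zero

theorem phi_mul_center (g : G) {z : G} (hz : z ∈ center G) : phi D (g * z) = phi D g := by
  symm
  rw [phi_eq_iff D hp2, inv_mul_cancel_left]
  exact hz

/-- A set-theoretic section of `phi`. -/
noncomputable def sect (v : Plane D) : G := Function.surjInv (phi_surjective D hp2) v

theorem phi_sect (v : Plane D) : phi D (sect D hp2 v) = v :=
  Function.surjInv_eq (phi_surjective D hp2) v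

/-- `G` is in bijection with `Z(G) × V`, the second coordinate being `phi`. -/
noncomputable def splitEquiv : G ≃ ↥(center G) × Plane D where
  toFun g := (⟨(sect D hp2 (phi D g))⁻¹ * g, by
    rw [← phi_eq_iff D hp2, phi_sect]⟩, phi D g)
  invFun x := sect D hp2 x.2 * (x.1 : G)
  left_inv g := by simp
  right_inv x := by
    obtain ⟨⟨z, hz⟩, v⟩ := x
    have : phi D (sect D hp2 v * z) = v := by rw [phi_mul_center D hp2 _ hz, phi_sect]
    simp [this]

theorem splitEquiv_snd (g : G) : (splitEquiv D hp2 g).2 = phi D g := rfl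

theorem card_preimage (S : Set (Plane D)) :
    Nat.card {g : G // phi D g ∈ S} = Nat.card (center G) * Nat.card S := by
  rw [← Nat.card_prod]
  refine Nat.card_congr
    { toFun := fun g => ((splitEquiv D hp2 g.1).1, ⟨phi D g.1, g.2⟩)
      invFun := fun x => ⟨(splitEquiv D hp2).symm (x.1, x.2.1), ?_⟩
      left_inv := fun g => ?_
      right_inv := fun x => ?_ }
  · rw [← splitEquiv_snd D hp2, Equiv.apply_symm_apply]; exact x.2.2
  · exact Subtype.ext ((splitEquiv D hp2).symm_apply_apply g.1)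
  · obtain ⟨z, ⟨v, hv⟩⟩ := x
    have := (splitEquiv D hp2).apply_symm_apply (z, v)
    ext1
    · have h1 := congrArg Prod.fst this
      exact h1
    · have h1 := congrArg Prod.snd this
      exact Subtype.ext h1

/-- The image of a subgroup is a submodule. -/
noncomputable def img (R : Subgroup G) : Submodule (Coord D) (Plane D) where
  carrier := phi D '' (R : Set G)
  zero_mem' := ⟨1, R.one_mem, phi_one D hp2⟩
  add_mem' := by
    rintro _ _ ⟨g, hg, rfl⟩ ⟨h, hh, rfl⟩
    obtain ⟨c, hc, hmul⟩ := phi_mul_exists D hp2 g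
    obtain ⟨d, hd, -, hpow⟩ := phi_pow D hp2 h
    obtain ⟨c', hc'⟩ := isUnit_of_dvd_sub_one hc
    obtain ⟨t, ht⟩ := gsum_surjective hp2 hd (↑c'⁻¹ : Coord D)
    exact ⟨g * h ^ t, R.mul_mem hg (R.pow_mem hh t), by
      rw [hmul, hpow, ht, ← hc', smul_smul, Units.mul_inv, one_smul]⟩
  smul_mem' := by
    rintro x _ ⟨g, hg, rfl⟩
    obtain ⟨d, hd, -, hpow⟩ := phi_pow D hp2 g
    obtain ⟨t, ht⟩ := gsum_surjective hp2 hd x
    exact ⟨g ^ t, R.pow_mem hg t, by rw [hpow, ht]⟩

theorem mem_img {R : Subgroup G} {v : Plane D} : v ∈ img D hp2 R ↔ ∃ g ∈ R, phi D g = v := Iff.rfl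

/-- The preimage of a submodule is a subgroup. -/
noncomputable def pre (W : Submodule (Coord D) (Plane D)) : Subgroup G where
  carrier := {g | phi D g ∈ W}
  one_mem' := by simp [phi_one D hp2]
  mul_mem' := by
    intro g h hg hh
    obtain ⟨c, -, hmul⟩ := phi_mul_exists D hp2 g
    change phi D (g * h) ∈ W
    rw [hmul]
    exact W.add_mem hg (W.smul_mem c hh)
  inv_mem' := by
    intro g hg
    obtain ⟨c, hc, hmul⟩ := phi_mul_exists D hp2 g
    obtain ⟨c', hc'⟩ := isUnit_of_dvd_sub_one hc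
    have h := hmul g⁻¹
    rw [mul_inv_cancel, phi_one D hp2] at h
    have h' : phi D g⁻¹ = (-(↑c'⁻¹ : Coord D)) • phi D g := by
      have : phi D g = -(c • phi D g⁻¹) := eq_neg_of_add_eq_zero_left h.symm
      rw [this, ← hc', smul_neg, neg_smul, neg_neg, smul_smul, Units.inv_mul, one_smul]
    change phi D g⁻¹ ∈ W
    rw [h']
    exact W.smul_mem _ hg

theorem mem_pre {W : Submodule (Coord D) (Plane D)} {g : G} :
    g ∈ pre D hp2 W ↔ phi D g ∈ W := Iff.rfl

theorem center_le_pre (W : Submodule (Coord D) (Plane D)) : center G ≤ pre D hp2 W := fun g hg => by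
  rw [mem_pre, (phi_eq_zero_iff D hp2 g).mpr hg]; exact W.zero_mem

theorem card_pre (W : Submodule (Coord D) (Plane D)) :
    Nat.card (pre D hp2 W) = Nat.card (center G) * Nat.card W :=
  card_preimage D hp2 (W : Set (Plane D))

theorem le_pre_img (R : Subgroup G) : R ≤ pre D hp2 (img D hp2 R) := fun g hg => ⟨g, hg, rfl⟩

theorem eq_pre_img {R : Subgroup G} (h : center G ≤ R) : R = pre D hp2 (img D hp2 R) := by
  refine le_antisymm (le_pre_img D hp2 R) ?_
  rintro g ⟨x, hx, hxg⟩
  have := (phi_eq_iff D hp2 x g).mp hxg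
  simpa using R.mul_mem hx (h this)

theorem img_pre (W : Submodule (Coord D) (Plane D)) : img D hp2 (pre D hp2 W) = W := by
  ext v
  refine ⟨fun ⟨g, hg, hgv⟩ => hgv ▸ hg, fun hv => ⟨sect D hp2 v, ?_, phi_sect D hp2 v⟩⟩
  change phi D (sect D hp2 v) ∈ W
  rw [phi_sect]; exact hv

end Cfsg.Agent.MetacyclicP
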