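import Cfsg.Agent.MetacyclicP.Arith
import Mathlib.Algebra.Module.Submodule.Basic
import Mathlib.Algebra.Module.Prod
import Mathlib.LinearAlgebra.Prod

/-!
Submodules of `(ZMod (p^n))²` in adapted bases, and their orthogonals for the determinant form.
-/

set_option autoImplicit false

namespace Cfsg.Agent.MetacyclicP.Box

variable {R : Type*} [CommRing R]

/-- The alternating form `v.2 * w.1 - v.1 * w.2`. -/
def bdet (v w : R × R) : R := v.2 * w.1 - v.1 * w.2

theorem bdet_self (v : R × R) : bdet v v = 0 := by simp [bdet]; ring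

theorem bdet_swap (v w : R × R) : bdet w v = - bdet v w := by simp [bdet]; ring

/-- A pair of vectors spanning the plane with determinant one. -/
structure Frame (R : Type*) [CommRing R] where
  e : R × R
  f : R × R
  h : bdet e f = 1

variable (F : Frame R)

theorem Frame.eq_comb (z : R × R) : z = bdet z F.f • F.e + bdet F.e z • F.f := by
  have h := F.h
  simp only [bdet] at h
  ext <;> simp only [bdet, Prod.smul_fst, Prod.smul_snd, Prod.fst_add, Prod.snd_add, smul_eq_mul]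
  · linear_combination -z.1 * h
  · linear_combination -z.2 * h

theorem Frame.bdet_comb (α β : R) (z : R × R) :
    bdet (α • F.e + β • F.f) z = α * bdet F.e z + β * bdet F.f z := by
  simp [bdet]; ring

theorem Frame.coord1 (α β : R) : bdet (α • F.e + β • F.f) F.f = α := by
  rw [F.bdet_comb, F.h, bdet_self]; ring

theorem Frame.coord2 (α β : R) : bdet F.e (α • F.e + β • F.f) = β := by
  have h := F.h
  simp only [bdet] at h
  simp [bdet]; linear_combination β * h

theorem Frame.bdet_eq (z w : R × R) :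
    bdet z w = bdet z F.f * bdet F.e w - bdet F.e z * bdet w F.f := by
  conv_lhs => rw [F.eq_comb z, F.bdet_comb]
  rw [bdet_swap w F.f]; ring

/-- The coordinates with respect to a frame. -/
def Frame.coordEquiv : R × R ≃ R × R where
  toFun z := (bdet z F.f, bdet F.e z)
  invFun c := c.1 • F.e + c.2 • F.f
  left_inv z := (F.eq_comb z).symm
  right_inv c := Prod.ext (F.coord1 c.1 c.2) (F.coord2 c.1 c.2)

/-- The standard frame. -/
def Frame.std (R : Type*) [CommRing R] : Frame R := ⟨(0, 1), (1, 0), by simp [bdet]⟩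

/-- The box of vectors with coordinates divisible by `x` and `y`. -/
def box (x y : R) : Submodule R (R × R) where
  carrier := {z | x ∣ bdet z F.f ∧ y ∣ bdet F.e z}
  zero_mem' := by simp [bdet]
  add_mem' := by
    rintro z w ⟨h1, h2⟩ ⟨h3, h4⟩
    constructor
    · have : bdet (z + w) F.f = bdet z F.f + bdet w F.f := by simp [bdet]; ring
      rw [this]; exact dvd_add h1 h3
    · have : bdet F.e (z + w) = bdet F.e z + bdet F.e w := by simp [bdet]; ring
      rw [this]; exact dvd_add h2 h4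
  smul_mem' := by
    rintro c z ⟨h1, h2⟩
    constructor
    · have : bdet (c • z) F.f = c * bdet z F.f := by simp [bdet]; ring
      rw [this]; exact h1.mul_left c
    · have : bdet F.e (c • z) = c * bdet F.e z := by simp [bdet]; ring
      rw [this]; exact h2.mul_left c

theorem mem_box {x y : R} {z : R × R} : z ∈ box F x y ↔ x ∣ bdet z F.f ∧ y ∣ bdet F.e z := Iff.rfl

theorem box_comb_mem {x y α β : R} (hα : x ∣ α) (hβ : y ∣ β) :
    α • F.e + β • F.f ∈ box F x y := by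
  rw [mem_box, F.coord1, F.coord2]; exact ⟨hα, hβ⟩

/-- The orthogonal of a set of vectors. -/
def perp (S : Set (R × R)) : Submodule R (R × R) where
  carrier := {z | ∀ w ∈ S, bdet w z = 0}
  zero_mem' := by intro w _; simp [bdet]
  add_mem' := by
    intro z z' hz hz' w hw
    have h1 := hz w hw
    have h2 := hz' w hw
    simp only [bdet] at h1 h2 ⊢
    simp only [Prod.fst_add, Prod.snd_add]
    linear_combination h1 + h2
  smul_mem' := by
    intro c z hz w hw
    have h1 := hz w hw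
    simp only [bdet] at h1 ⊢
    simp only [Prod.smul_fst, Prod.smul_snd, smul_eq_mul]
    linear_combination c * h1

theorem mem_perp {S : Set (R × R)} {z : R × R} : z ∈ perp S ↔ ∀ w ∈ S, bdet w z = 0 := Iff.rfl

section ZMod

variable {p n : ℕ} [hp : Fact p.Prime]

/-- The box with `p`-power sides. -/
def pbox (F : Frame (ZMod (p ^ n))) (a b : ℕ) : Submodule (ZMod (p ^ n)) (ZMod (p ^ n) × ZMod (p ^ n)) :=
  box F ((p : ZMod (p ^ n)) ^ a) ((p : ZMod (p ^ n)) ^ b)

theorem card_pbox (F : Frame (ZMod (p ^ n))) {a b : ℕ} (ha : a ≤ n) (hb : b ≤ n) :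
    Nat.card (pbox F a b) = p ^ ((n - a) + (n - b)) := by
  rw [pow_add, ← card_pow_dvd (p := p) (N := n) ha, ← card_pow_dvd (p := p) (N := n) hb, ← Nat.card_prod]
  exact Nat.card_congr
    { toFun := fun z => (⟨(F.coordEquiv z.1).1, z.2.1⟩, ⟨(F.coordEquiv z.1).2, z.2.2⟩)
      invFun := fun c => ⟨F.coordEquiv.symm (c.1.1, c.2.1), box_comb_mem F c.1.2 c.2.2⟩
      left_inv := fun z => Subtype.ext (F.coordEquiv.symm_apply_apply z.1)
      right_inv := fun c => Prod.ext
        (Subtype.ext (congrArg Prod.fst (F.coordEquiv.apply_symm_apply (c.1.1, c.2.1))))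
        (Subtype.ext (congrArg Prod.snd (F.coordEquiv.apply_symm_apply (c.1.1, c.2.1)))) }

theorem perp_pbox (F : Frame (ZMod (p ^ n))) {a b : ℕ} (ha : a ≤ n) (hb : b ≤ n) :
    perp (pbox F a b : Set (ZMod (p ^ n) × ZMod (p ^ n))) = pbox F (n - b) (n - a) := by
  ext z
  rw [mem_perp]
  constructor
  · intro h
    have h1 := h _ (box_comb_mem F (x := (p : ZMod (p ^ n)) ^ a) (y := (p : ZMod (p ^ n)) ^ b)
      (dvd_refl _) (dvd_zero _))
    have h2 := h _ (box_comb_mem F (x := (p : ZMod (p ^ n)) ^ a) (y := (p : ZMod (p ^ n)) ^ b)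
      (dvd_zero _) (dvd_refl _))
    rw [F.bdet_eq, F.coord1, F.coord2] at h1 h2
    simp only [zero_mul, sub_zero, zero_sub, neg_eq_zero] at h1 h2
    exact ⟨(pow_mul_eq_zero_iff hb _).mp h2, (pow_mul_eq_zero_iff ha _).mp h1⟩
  · rintro ⟨h1, h2⟩ w ⟨h3, h4⟩
    obtain ⟨c1, hc1⟩ := h3
    obtain ⟨c2, hc2⟩ := h4
    have e1 := (pow_mul_eq_zero_iff hb _).mpr h1
    have e2 := (pow_mul_eq_zero_iff ha _).mpr h2
    rw [F.bdet_eq, hc1, hc2]
    linear_combination c1 * e2 - c2 * e1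

theorem pbox_le_iff (F : Frame (ZMod (p ^ n))) {a b c d : ℕ} (hc : c ≤ n) (hd : d ≤ n) :
    pbox F a b ≤ pbox F c d ↔ c ≤ a ∧ d ≤ b := by
  constructor
  · intro h
    obtain ⟨h1, h2⟩ := h (box_comb_mem F (x := (p : ZMod (p ^ n)) ^ a) (y := (p : ZMod (p ^ n)) ^ b)
      (dvd_refl _) (dvd_refl _))
    rw [F.coord1] at h1
    rw [F.coord2] at h2
    rw [← mul_one ((p : ZMod (p ^ n)) ^ a)] at h1
    rw [← mul_one ((p : ZMod (p ^ n)) ^ b)] at h2
    exact ⟨(pow_dvd_pow_mul_iff hc isUnit_one).mp h1, (pow_dvd_pow_mul_iff hd isUnit_one).mp h2⟩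
  · rintro ⟨h1, h2⟩ z ⟨h3, h4⟩
    exact ⟨(pow_dvd_pow _ h1).trans h3, (pow_dvd_pow _ h2).trans h4⟩

/-- Every submodule is a box in a suitable frame. -/
theorem exists_eq_pbox (W : Submodule (ZMod (p ^ n)) (ZMod (p ^ n) × ZMod (p ^ n))) :
    ∃ (F : Frame (ZMod (p ^ n))) (a b : ℕ), a ≤ b ∧ b ≤ n ∧ W = pbox F a b := by
  classical
  let Good : ℕ → Prop := fun a => ∀ z ∈ W,
    (p : ZMod (p ^ n)) ^ a ∣ z.1 ∧ (p : ZMod (p ^ n)) ^ a ∣ z.2
  set a := Nat.findGreatest Good n with ha_def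
  have ha : a ≤ n := Nat.findGreatest_le n
  have hgood : Good a := Nat.findGreatest_spec (P := Good) (Nat.zero_le n) (fun z _ => by simp)
  -- an adapted frame
  obtain ⟨F, hF⟩ : ∃ F : Frame (ZMod (p ^ n)), (p : ZMod (p ^ n)) ^ a • F.e ∈ W := by
    rcases Nat.lt_or_ge a n with hlt | hge
    · have hnot : ¬ Good (a + 1) := Nat.findGreatest_is_greatest (Nat.lt_succ_self _) hlt
      simp only [Good, not_forall] at hnot
      obtain ⟨z, hz, hz'⟩ := hnot
      obtain ⟨⟨x, hx⟩, ⟨y, hy⟩⟩ := hgood z hz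
      have key : ∀ x : ZMod (p ^ n),
          ¬ (p : ZMod (p ^ n)) ^ (a + 1) ∣ (p : ZMod (p ^ n)) ^ a * x → IsUnit x := by
        intro x hx
        obtain ⟨v, u, hv, hu, rfl⟩ := exists_pow_mul_unit x
        rcases Nat.eq_zero_or_pos v with rfl | hv0
        · simpa using hu
        · exfalso
          apply hx
          rw [← mul_assoc, ← pow_add]
          exact dvd_mul_of_dvd_left (pow_dvd_pow _ (by omega)) _
      have hze : z = (p : ZMod (p ^ n)) ^ a • (x, y) := Prod.ext hx hy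
      rcases not_and_or.mp hz' with h | h
      · obtain ⟨x', hx'⟩ := key x (hx ▸ h)
        refine ⟨⟨(x, y), (0, -(↑x'⁻¹ : ZMod (p ^ n))), ?_⟩, hze ▸ hz⟩
        simp [bdet, ← hx']
      · obtain ⟨y', hy'⟩ := key y (hy ▸ h)
        refine ⟨⟨(x, y), ((↑y'⁻¹ : ZMod (p ^ n)), 0), ?_⟩, hze ▸ hz⟩
        simp [bdet, ← hy']
    · refine ⟨Frame.std _, ?_⟩
      rw [show a = n by omega, natCast_pow_eq_zero, zero_smul]
      exact W.zero_mem
  let Bad : ℕ → Prop := fun b => ((p : ZMod (p ^ n)) ^ b) • F.f ∈ W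
  have hex : ∃ b, Bad b := ⟨n, by
    change ((p : ZMod (p ^ n)) ^ n) • F.f ∈ W
    rw [natCast_pow_eq_zero, zero_smul]; exact W.zero_mem⟩
  set b := Nat.find hex
  have hb : b ≤ n := Nat.find_min' hex (by
    change ((p : ZMod (p ^ n)) ^ n) • F.f ∈ W
    rw [natCast_pow_eq_zero, zero_smul]; exact W.zero_mem)
  have hbmem : ((p : ZMod (p ^ n)) ^ b) • F.f ∈ W := Nat.find_spec hex
  refine ⟨F, a, b, ?_, hb, le_antisymm ?_ ?_⟩
  · obtain ⟨h1, h2⟩ := hgood _ hbmem
    have : (p : ZMod (p ^ n)) ^ a ∣ bdet F.e (((p : ZMod (p ^ n)) ^ b) • F.f) := by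
      simp only [bdet]
      exact dvd_sub (h1.mul_left _) (h2.mul_left _)
    rw [show bdet F.e (((p : ZMod (p ^ n)) ^ b) • F.f) = (p : ZMod (p ^ n)) ^ b * 1 by
      have h := F.h
      simp only [bdet] at h
      simp [bdet]; linear_combination (p : ZMod (p ^ n)) ^ b * h] at this
    exact (pow_dvd_pow_mul_iff ha isUnit_one).mp this
  · intro z hz
    obtain ⟨h1, h2⟩ := hgood z hz
    have hα : (p : ZMod (p ^ n)) ^ a ∣ bdet z F.f := by
      simp only [bdet]; exact dvd_sub (h2.mul_right _) (h1.mul_right _)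
    refine ⟨hα, ?_⟩
    obtain ⟨α', hα'⟩ := hα
    have hbe : bdet F.e z • F.f ∈ W := by
      have h3 : bdet z F.f • F.e ∈ W := by
        rw [hα', mul_comm, mul_smul]; exact W.smul_mem _ hF
      have h4 := W.sub_mem hz h3
      nth_rewrite 1 [F.eq_comb z] at h4
      rwa [add_sub_cancel_left] at h4
    obtain ⟨v, u, hv, hu, hvu⟩ := exists_pow_mul_unit (bdet F.e z)
    obtain ⟨u', rfl⟩ := hu
    have h5 := W.smul_mem (↑u'⁻¹ : ZMod (p ^ n)) hbe
    rw [hvu, smul_smul, mul_comm, mul_assoc, Units.mul_inv, mul_one] at h5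
    rw [hvu]
    exact dvd_mul_of_dvd_left (pow_dvd_pow _ (Nat.find_min' hex h5)) _
  · rintro z ⟨⟨c1, h1⟩, ⟨c2, h2⟩⟩
    rw [F.eq_comb z, h1, h2, mul_comm _ c1, mul_comm _ c2, mul_smul, mul_smul]
    exact W.add_mem (W.smul_mem _ hF) (W.smul_mem _ hbmem)

theorem isotropic_iff (F : Frame (ZMod (p ^ n))) {a b : ℕ} (ha : a ≤ n) (hb : b ≤ n) :
    (pbox F a b : Submodule (ZMod (p ^ n)) (ZMod (p ^ n) × ZMod (p ^ n))) ≤
      perp (pbox F a b : Set (ZMod (p ^ n) × ZMod (p ^ n))) ↔ n ≤ a + b := by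
  rw [perp_pbox F ha hb, pbox_le_iff F (Nat.sub_le _ _) (Nat.sub_le _ _)]
  omega

theorem card_mul_card_perp (W : Submodule (ZMod (p ^ n)) (ZMod (p ^ n) × ZMod (p ^ n))) :
    Nat.card W * Nat.card (perp (W : Set (ZMod (p ^ n) × ZMod (p ^ n)))) = p ^ (2 * n) := by
  obtain ⟨F, a, b, hab, hb, rfl⟩ := exists_eq_pbox W
  rw [perp_pbox F (hab.trans hb) hb, card_pbox F (hab.trans hb) hb,
    card_pbox F (Nat.sub_le _ _) (Nat.sub_le _ _), ← pow_add]
  congr 1
  omega

theorem perp_perp (W : Submodule (ZMod (p ^ n)) (ZMod (p ^ n) × ZMod (p ^ n))) :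
    perp (perp (W : Set (ZMod (p ^ n) × ZMod (p ^ n))) : Set (ZMod (p ^ n) × ZMod (p ^ n))) = W := by
  obtain ⟨F, a, b, hab, hb, rfl⟩ := exists_eq_pbox W
  rw [perp_pbox F (hab.trans hb) hb, perp_pbox F (Nat.sub_le _ _) (Nat.sub_le _ _)]
  congr 1 <;> omega

theorem isotropic_iff_card (W : Submodule (ZMod (p ^ n)) (ZMod (p ^ n) × ZMod (p ^ n))) :
    W ≤ perp (W : Set (ZMod (p ^ n) × ZMod (p ^ n))) ↔ Nat.card W ≤ p ^ n := by
  obtain ⟨F, a, b, hab, hb, rfl⟩ := exists_eq_pbox W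
  rw [isotropic_iff F (hab.trans hb) hb, card_pbox F (hab.trans hb) hb,
    Nat.pow_le_pow_iff_right hp.out.one_lt]
  omega

theorem perp_le_of_not_isotropic (W : Submodule (ZMod (p ^ n)) (ZMod (p ^ n) × ZMod (p ^ n)))
    (h : ¬ W ≤ perp (W : Set (ZMod (p ^ n) × ZMod (p ^ n)))) :
    perp (W : Set (ZMod (p ^ n) × ZMod (p ^ n))) ≤ W := by
  obtain ⟨F, a, b, hab, hb, rfl⟩ := exists_eq_pbox W
  rw [isotropic_iff F (hab.trans hb) hb] at h
  rw [perp_pbox F (hab.trans hb) hb, pbox_le_iff F (hab.trans hb) hb]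
  omega

theorem le_perp_of_isotropic_card (W : Submodule (ZMod (p ^ n)) (ZMod (p ^ n) × ZMod (p ^ n)))
    (h : Nat.card W = p ^ n) : perp (W : Set (ZMod (p ^ n) × ZMod (p ^ n))) = W := by
  have h1 := (isotropic_iff_card W).mpr h.le
  have h2 := card_mul_card_perp W
  rw [h, two_mul, pow_add] at h2
  have h3 := Nat.eq_of_mul_eq_mul_left (pow_pos hp.out.pos n) h2
  symm
  apply SetLike.coe_injective
  exact Set.eq_of_subset_of_ncard_le h1 (by
    rw [← Nat.card_coe_set_eq, ← Nat.card_coe_set_eq]; exact (h3.trans h.symm).le) (Set.toFinite _)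

/-- The submodule `p^s V`. -/
def level (p n s : ℕ) : Submodule (ZMod (p ^ n)) (ZMod (p ^ n) × ZMod (p ^ n)) :=
  pbox (Frame.std _) s s

omit hp in
theorem mem_level {s : ℕ} {z : ZMod (p ^ n) × ZMod (p ^ n)} :
    z ∈ level p n s ↔ (p : ZMod (p ^ n)) ^ s ∣ z.2 ∧ (p : ZMod (p ^ n)) ^ s ∣ z.1 := by
  simp [level, pbox, mem_box, bdet, Frame.std]

theorem card_level {s : ℕ} (hs : s ≤ n) : Nat.card (level p n s) = p ^ (2 * (n - s)) := by
  rw [level, card_pbox _ hs hs, two_mul]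

theorem span_singleton_structure (v : ZMod (p ^ n) × ZMod (p ^ n)) :
    ∃ c, c ≤ n ∧ Nat.card (Submodule.span (ZMod (p ^ n)) {v}) = p ^ (n - c) ∧
      ∀ s, s ≤ n → (v ∈ level p n s ↔ s ≤ c) := by
  obtain ⟨F, a, b, hab, hb, hW⟩ := exists_eq_pbox (Submodule.span (ZMod (p ^ n)) {v})
  have hbn : b = n := by
    by_contra hbn
    have hbox : (0 : ZMod (p ^ n)) • F.e + (p : ZMod (p ^ n)) ^ b • F.f ∈ pbox F a b :=
      box_comb_mem F (dvd_zero _) (dvd_refl _)
    have haox : (p : ZMod (p ^ n)) ^ a • F.e + (0 : ZMod (p ^ n)) • F.f ∈ pbox F a b :=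
      box_comb_mem F (dvd_refl _) (dvd_zero _)
    rw [← hW] at hbox haox
    obtain ⟨c1, hc1⟩ := Submodule.mem_span_singleton.mp hbox
    obtain ⟨c2, hc2⟩ := Submodule.mem_span_singleton.mp haox
    have hv : v ∈ pbox F a b := hW ▸ Submodule.mem_span_singleton_self v
    obtain ⟨⟨α, hα⟩, ⟨β, hβ⟩⟩ := hv
    have sm : ∀ (c : ZMod (p ^ n)), bdet (c • v) F.f = c * bdet v F.f ∧
        bdet F.e (c • v) = c * bdet F.e v := fun c => by
      constructor <;> simp [bdet] <;> ring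
    have e1 := (sm c1).1
    have e2 := (sm c1).2
    have e3 := (sm c2).1
    have e4 := (sm c2).2
    rw [hc1, F.coord1, hα] at e1
    rw [hc1, F.coord2, hβ] at e2
    rw [hc2, F.coord1, hα] at e3
    rw [hc2, F.coord2, hβ] at e4
    -- `p^b = c1 β p^b`, `c1 α p^a = 0`, `p^a = c2 α p^a`, `c2 β p^b = 0`
    have key : (p : ZMod (p ^ n)) ^ b * 1 = 0 := by
      have h1 : (p : ZMod (p ^ n)) ^ b = (p : ZMod (p ^ n)) ^ a * (p : ZMod (p ^ n)) ^ (b - a) := by
        rw [← pow_add, Nat.add_sub_cancel' hab]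
      rw [mul_one]
      have f1 : c1 * α * (p : ZMod (p ^ n)) ^ b = 0 := by
        rw [h1]; linear_combination -(p : ZMod (p ^ n)) ^ (b - a) * e1
      have f3 : (p : ZMod (p ^ n)) ^ b = c2 * α * (p : ZMod (p ^ n)) ^ b := by
        rw [h1]; linear_combination (p : ZMod (p ^ n)) ^ (b - a) * e3
      linear_combination e2 + c1 * β * f3 + c2 * β * f1
    have h0 : (p : ZMod (p ^ n)) ^ n ∣ (p : ZMod (p ^ n)) ^ b * 1 := key ▸ dvd_zero _
    have := (pow_dvd_pow_mul_iff le_rfl isUnit_one).mp h0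
    omega
  rw [hbn] at hW
  refine ⟨a, by omega, ?_, fun s hs => ?_⟩
  · rw [hW, card_pbox F (by omega) le_rfl]; congr 1; omega
  · rw [← Submodule.span_singleton_le_iff_mem, hW]
    constructor
    · intro h
      obtain ⟨h1, h2⟩ := mem_level.mp (h (box_comb_mem F (α := (p : ZMod (p ^ n)) ^ a)
        (y := (p : ZMod (p ^ n)) ^ n) (x := (p : ZMod (p ^ n)) ^ a) (dvd_refl _) (dvd_zero _)))
      simp only [zero_smul, add_zero, Prod.smul_fst, Prod.smul_snd, smul_eq_mul] at h1 h2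
      have h3 : (p : ZMod (p ^ n)) ^ s ∣ (p : ZMod (p ^ n)) ^ a * 1 := by
        rw [← F.h]
        simp only [bdet, mul_sub, ← mul_assoc]
        exact dvd_sub (h1.mul_right _) (h2.mul_right _)
      exact (pow_dvd_pow_mul_iff hs isUnit_one).mp h3
    · intro h z hz
      rw [mem_level, F.eq_comb z]
      obtain ⟨h1, h2⟩ := hz
      have h1' := (pow_dvd_pow _ h).trans h1
      have h2' := (pow_dvd_pow _ (show s ≤ n by omega)).trans h2
      constructor <;> simp only [Prod.fst_add, Prod.snd_add, Prod.smul_fst, Prod.smul_snd, smul_eq_mul] <;>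
        exact dvd_add (h1'.mul_right _) (h2'.mul_right _)

end ZMod

end Cfsg.Agent.MetacyclicP.Box
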