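import Cfsg.Prelude.Def_OddOrderLocal
import Cfsg.Agent.MetacyclicP.Arith
import Mathlib.GroupTheory.PGroup
import Mathlib.GroupTheory.SpecificGroups.Cyclic
import Mathlib.Data.Nat.Multiplicity
import Mathlib.GroupTheory.OrderOfElement
import Mathlib.Tactic.LinearCombination

/-!
A standard generating pair `a, b` of a finite metacyclic `p`-group, `p` odd.
-/

set_option autoImplicit false

namespace Cfsg.Agent.MetacyclicP

open Subgroup

/-- `⟨a⟩` normal cyclic of order `p^m` with quotient of order `p^k` generated by the image of `b`,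
`b a b⁻¹ = a^r` with `r = 1 + p^(m-n) u`. -/
structure Data (p : ℕ) (G : Type*) [Group G] where
  a : G
  b : G
  m : ℕ
  n : ℕ
  k : ℕ
  r : ℤ
  u : ℤ
  hord : orderOf a = p ^ m
  hconj : b * a * b⁻¹ = a ^ r
  hr : r = 1 + (p : ℤ) ^ (m - n) * u
  hu : ¬ (p : ℤ) ∣ u
  hnm : n ≤ m
  hlt : n ≠ 0 → n < m
  hgen : ∀ g : G, ∃ (i : ℤ) (j : ℕ), g = a ^ i * b ^ j
  hk : b ^ (p ^ k) ∈ zpowers a
  hkmin : ∀ j : ℤ, b ^ j ∈ zpowers a → ((p : ℤ) ^ k) ∣ j
  hcard : Nat.card G = p ^ (m + k)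

section

variable {G : Type*} [Group G] {p : ℕ} [hp : Fact p.Prime]

/-- In a subgroup, the least `p`-power exponent of a `p`-element generates all exponents. -/
theorem exists_least_pow_mem (H : Subgroup G) (x : G) {K : ℕ} (hK : x ^ (p ^ K) ∈ H) :
    ∃ α, α ≤ K ∧ x ^ (p ^ α) ∈ H ∧ ∀ i : ℤ, x ^ i ∈ H → ((p : ℤ) ^ α) ∣ i := by
  classical
  have hex : ∃ α, x ^ (p ^ α) ∈ H := ⟨K, hK⟩
  refine ⟨Nat.find hex, Nat.find_min' hex hK, Nat.find_spec hex, fun i hi => ?_⟩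
  obtain ⟨v, hv, hgcd⟩ := (Nat.dvd_prime_pow hp.out).mp
    (by simpa using Int.natCast_dvd_natCast.mp (Int.gcd_dvd_right i ((p ^ K : ℕ) : ℤ)) : Int.gcd i ((p ^ K : ℕ) : ℤ) ∣ p ^ K)
  have hmem : x ^ (p ^ v) ∈ H := by
    have hb := Int.gcd_eq_gcd_ab i ((p ^ K : ℕ) : ℤ)
    rw [hgcd] at hb
    have : x ^ ((p ^ v : ℕ) : ℤ) ∈ H := by
      rw [hb, zpow_add, zpow_mul, zpow_mul]
      refine mul_mem (zpow_mem hi _) (zpow_mem ?_ _)
      rwa [zpow_natCast]
    rwa [zpow_natCast] at this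
  have hle : Nat.find hex ≤ v := Nat.find_min' hex hmem
  calc ((p : ℤ) ^ Nat.find hex) ∣ (p : ℤ) ^ v := pow_dvd_pow _ hle
    _ = ((Int.gcd i ((p ^ K : ℕ) : ℤ) : ℕ) : ℤ) := by rw [hgcd]; push_cast; rfl
    _ ∣ i := Int.gcd_dvd_left ..

theorem conj_zpow_iter {a b : G} {r : ℤ} (h : b * a * b⁻¹ = a ^ r) (i : ℤ) (j : ℕ) :
    b ^ j * a ^ i * (b ^ j)⁻¹ = a ^ (r ^ j * i) := by
  induction j with
  | zero => simp
  | succ j ih =>
      calc b ^ (j + 1) * a ^ i * (b ^ (j + 1))⁻¹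
          = b * (b ^ j * a ^ i * (b ^ j)⁻¹) * b⁻¹ := by rw [pow_succ']; group
        _ = MulAut.conj b (a ^ (r ^ j * i)) := by rw [ih]; rfl
        _ = (MulAut.conj b a) ^ (r ^ j * i) := map_zpow _ _ _
        _ = a ^ (r ^ (j + 1) * i) := by
            rw [MulAut.conj_apply, h, ← zpow_mul, pow_succ']; ring_nf

theorem exists_data [Finite G] (hG : IsPGroup p G) (hmc : Cfsg.IsMetacyclic G) :
    Nonempty (Data p G) := by
  classical
  obtain ⟨N, hN, hNc, hQc⟩ := hmc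
  haveI := hN
  obtain ⟨⟨a, haN⟩, ha⟩ := hNc.exists_generator
  have hNeq : zpowers a = N := by
    apply le_antisymm (zpowers_le.mpr haN)
    intro g hg
    obtain ⟨i, hi⟩ := mem_zpowers_iff.mp (ha ⟨g, hg⟩)
    exact mem_zpowers_iff.mpr ⟨i, by simpa using congrArg Subtype.val hi⟩
  obtain ⟨q, hq⟩ := hQc.exists_generator
  obtain ⟨b, rfl⟩ := QuotientGroup.mk_surjective q
  obtain ⟨m, hm⟩ := IsPGroup.iff_orderOf.mp hG a
  obtain ⟨K, hK⟩ := IsPGroup.iff_orderOf.mp hG b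
  have hbK : b ^ (p ^ K) = 1 := by rw [← hK, pow_orderOf_eq_one]
  obtain ⟨k, -, hk, hkmin⟩ := exists_least_pow_mem (p := p) N b (K := K) (hbK ▸ N.one_mem)
  have hgen : ∀ g : G, ∃ (i : ℤ) (j : ℕ), g = a ^ i * b ^ j := by
    intro g
    obtain ⟨j, hj⟩ := (isOfFinOrder_of_finite (b : G ⧸ N)).mem_powers_iff_mem_zpowers.mpr
      (hq (g : G ⧸ N))
    have hj' : ((b ^ j : G) : G ⧸ N) = (g : G ⧸ N) := by rw [QuotientGroup.mk_pow]; exact hj
    have hmem : g * (b ^ j)⁻¹ ∈ N := by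
      rw [← QuotientGroup.eq_one_iff, QuotientGroup.mk_mul, QuotientGroup.mk_inv, hj',
        mul_inv_cancel]
    rw [← hNeq] at hmem
    obtain ⟨i, hi⟩ := mem_zpowers_iff.mp hmem
    exact ⟨i, j, by rw [hi]; group⟩
  have hcard : Nat.card G = p ^ (m + k) := by
    rw [Subgroup.card_eq_card_quotient_mul_card_subgroup N]
    have h1 : Nat.card N = p ^ m := by rw [← hNeq, Nat.card_zpowers, hm]
    have h2 : Nat.card (G ⧸ N) = p ^ k := by
      rw [← orderOf_eq_card_of_forall_mem_zpowers hq]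
      apply Nat.dvd_antisymm
      · rw [orderOf_dvd_iff_pow_eq_one, ← QuotientGroup.mk_pow, QuotientGroup.eq_one_iff]
        exact hk
      · have h3 : b ^ ((orderOf (b : G ⧸ N) : ℕ) : ℤ) ∈ N := by
          rw [zpow_natCast, ← QuotientGroup.eq_one_iff, QuotientGroup.mk_pow, pow_orderOf_eq_one]
        exact_mod_cast hkmin _ h3
    rw [h1, h2, ← pow_add, add_comm]
  obtain ⟨r₀, hr₀⟩ := mem_zpowers_iff.mp (hNeq.symm ▸ hN.conj_mem a haN b : b * a * b⁻¹ ∈ zpowers a)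
  have key : ∀ r' : ℤ, (((p : ℤ) ^ m) ∣ r' - r₀) → b * a * b⁻¹ = a ^ r' := by
    intro r' hr'
    rw [← hr₀, zpow_eq_zpow_iff_modEq, hm, Nat.cast_pow, Int.modEq_iff_dvd]
    exact hr'
  by_cases hdiv : ((p : ℤ) ^ m) ∣ r₀ - 1
  · exact ⟨{
      a := a, b := b, m := m, n := 0, k := k, r := 1 + (p : ℤ) ^ m, u := 1
      hord := hm
      hconj := key _ (by
        have : (1 + (p : ℤ) ^ m) - r₀ = (p : ℤ) ^ m - (r₀ - 1) := by ring
        rw [this]; exact dvd_sub dvd_rfl hdiv)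
      hr := by simp
      hu := fun h => hp.out.one_lt.ne' (by
        exact_mod_cast (Int.eq_one_of_dvd_one (by positivity) h))
      hnm := Nat.zero_le _
      hlt := fun h => absurd rfl h
      hgen := hgen
      hk := hNeq ▸ hk
      hkmin := fun j hj => hkmin j (hNeq ▸ hj)
      hcard := hcard }⟩
  · have hm0 : m ≠ 0 := fun h => hdiv (by simp [h])
    have hp1 : (p : ℤ) ∣ r₀ - 1 := by
      have h1 : a ^ (r₀ ^ (p ^ K) * 1) = a ^ (1 : ℤ) := by
        rw [← conj_zpow_iter hr₀.symm 1 (p ^ K), hbK]; simp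
      rw [zpow_eq_zpow_iff_modEq, hm, Nat.cast_pow, Int.modEq_iff_dvd, mul_one] at h1
      have h2 := (dvd_pow_self (p : ℤ) hm0).trans h1
      rw [← ZMod.intCast_zmod_eq_zero_iff_dvd] at h2 ⊢
      push_cast at h2 ⊢
      rw [ZMod.pow_card_pow] at h2
      linear_combination -h2
    have hne : (r₀ - 1).natAbs ≠ 0 := by
      intro h
      exact hdiv (by rw [Int.natAbs_eq_zero.mp h]; exact dvd_zero _)
    obtain ⟨v, w, hw, hvw⟩ := Nat.exists_eq_pow_mul_and_not_dvd hne p hp.out.ne_one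
    have hvm : v < m := by
      by_contra h
      push Not at h
      apply hdiv
      rw [← Nat.cast_pow, Int.natCast_dvd, hvw]
      exact dvd_mul_of_dvd_left (Nat.pow_dvd_pow p h) w
    have hv0 : v ≠ 0 := by
      intro h
      have := Int.natCast_dvd.mp hp1
      rw [hvw, h, pow_zero, one_mul] at this
      exact hw this
    obtain ⟨u, hu, hru⟩ : ∃ u : ℤ, ¬ (p : ℤ) ∣ u ∧ r₀ - 1 = (p : ℤ) ^ v * u := by
      rcases Int.natAbs_eq (r₀ - 1) with h | h
      · exact ⟨w, fun hd => hw (Int.natCast_dvd_natCast.mp hd),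
          h.trans (by rw [hvw]; push_cast; rfl)⟩
      · exact ⟨-(w : ℤ), fun hd => hw (Int.natCast_dvd_natCast.mp (dvd_neg.mp hd)),
          h.trans (by rw [hvw]; push_cast; ring)⟩
    exact ⟨{
      a := a, b := b, m := m, n := m - v, k := k, r := r₀, u := u
      hord := hm
      hconj := hr₀.symm
      hr := by rw [show m - (m - v) = v by omega]; linarith
      hu := hu
      hnm := Nat.sub_le _ _
      hlt := fun _ => by omega
      hgen := hgen
      hk := hNeq ▸ hk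
      hkmin := fun j hj => hkmin j (hNeq ▸ hj)
      hcard := hcard }⟩

end

end Cfsg.Agent.MetacyclicP
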