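import Cfsg.Agent.MetacyclicP.Main
import Mathlib.GroupTheory.Frattini
import Cfsg.Prelude.Def_BaumannBlocks

/-!
Non-abelian subgroups contain the centre, power subgroups, Frattini subgroup, and the factorisation
into two cyclic subgroups.
-/

set_option autoImplicit false

namespace Cfsg.Agent.MetacyclicP

open Subgroup Box

theorem card_center_subgroup {H : Type*} [Group H] (S : Subgroup H) :
    Nat.card (center ↥S) = Nat.card ↥(S ⊓ centralizer (S : Set H)) :=
  Nat.card_congr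
    { toFun := fun z => ⟨z.1.1, z.1.2, fun s hs =>
        congrArg Subtype.val (mem_center_iff.mp z.2 ⟨s, hs⟩)⟩
      invFun := fun x => ⟨⟨x.1, x.2.1⟩, mem_center_iff.mpr fun s =>
        Subtype.ext (mem_centralizer_iff.mp x.2.2 s.1 s.2)⟩
      left_inv := fun _ => rfl
      right_inv := fun _ => rfl }

variable {G : Type*} [Group G] {p : ℕ} [hp : Fact p.Prime] (D : Data p G) (hp2 : p ≠ 2)
include D hp2

theorem phi_zero_exponents {i : ℤ} {j : ℕ} {s : ℕ} (hs : s ≤ D.n) :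
    phi D (D.a ^ i * D.b ^ j) ∈ level p D.n s ↔ (p : ℤ) ^ s ∣ i ∧ p ^ s ∣ j := by
  rw [phi_apply D hp2, mem_level]
  obtain ⟨e, he, hje⟩ := gsum_eq_mul_unit hp2 j (r_sub_one_dvd D)
  rw [hje, (isUnit_of_dvd_sub_one he).dvd_mul_right, pow_dvd_natCast_iff hs, pow_dvd_intCast_iff hs]
  exact and_comm

theorem powers_eq [Finite G] {s : ℕ} (hs : s ≤ D.n) :
    closure {x : G | ∃ y : G, y ^ p ^ s = x} = pre D hp2 (level p D.n s) := by
  apply le_antisymm
  · rw [closure_le]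
    rintro _ ⟨y, rfl⟩
    change phi D (y ^ p ^ s) ∈ level p D.n s
    obtain ⟨c, hc, -, hpow⟩ := phi_pow D hp2 y
    obtain ⟨e, he, hse⟩ := gsum_eq_mul_unit hp2 (p ^ s) hc
    rw [hpow, hse, mem_level]
    push_cast
    constructor <;> simp only [Prod.smul_fst, Prod.smul_snd, smul_eq_mul, mul_assoc] <;>
      exact dvd_mul_right _ _
  · intro g hg
    obtain ⟨i, j, rfl⟩ := D.hgen g
    obtain ⟨⟨i', rfl⟩, ⟨j', rfl⟩⟩ := (phi_zero_exponents D hp2 hs).mp hg
    apply mul_mem <;> apply Subgroup.subset_closure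
    · exact ⟨D.a ^ i', by rw [← zpow_natCast (D.a ^ i'), ← zpow_mul, mul_comm, Nat.cast_pow]⟩
    · exact ⟨D.b ^ j', by rw [← pow_mul, mul_comm]⟩

theorem center_le_of_not_isotropic [Finite G] (S : Subgroup G)
    (hna : ¬ img D hp2 S ≤ perp (img D hp2 S : Set (Plane D))) : center G ≤ S := by
  rw [← isMulCommutative_iff D hp2] at hna
  haveI hN : (zpowers D.a).Normal := by
    refine ⟨fun x hx g => ?_⟩
    obtain ⟨t, rfl⟩ := mem_zpowers_iff.mp hx
    obtain ⟨i, j, rfl⟩ := D.hgen g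
    refine mem_zpowers_iff.mpr ⟨D.r ^ j * t, ?_⟩
    calc D.a ^ (D.r ^ j * t) = D.a ^ i * D.a ^ (D.r ^ j * t) * (D.a ^ i)⁻¹ := by
          rw [(Commute.zpow_zpow_self D.a i _).eq]; group
      _ = _ := by rw [← conj_zpow_iter D.hconj t j]; group
  have ha1 : D.a ^ (p ^ D.m) = 1 := by rw [← D.hord, pow_orderOf_eq_one]
  obtain ⟨α, hαm, hα, hαmin⟩ := exists_least_pow_mem (p := p) S D.a (K := D.m) (ha1 ▸ S.one_mem)
  obtain ⟨β, hβk, hβ, hβmin⟩ := exists_least_pow_mem (p := p) (S.map (QuotientGroup.mk' (zpowers D.a)))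
    (QuotientGroup.mk' (zpowers D.a) D.b) (K := D.k) (by
      rw [← map_pow, QuotientGroup.mk'_apply, (QuotientGroup.eq_one_iff _).mpr D.hk]
      exact one_mem _)
  obtain ⟨g, hgS, hgb⟩ := hβ
  rw [← map_pow, QuotientGroup.mk'_apply, QuotientGroup.mk'_apply, eq_comm, QuotientGroup.eq] at hgb
  -- `g = b^(p^β) * a^i₀`
  obtain ⟨i₁, hi₁⟩ := mem_zpowers_iff.mp hgb
  have hg : g = D.a ^ (D.r ^ (p ^ β) * i₁) * D.b ^ (p ^ β) := by
    rw [← conj_zpow_iter D.hconj, hi₁]; group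
  set i₀ := D.r ^ (p ^ β) * i₁
  have hgen : ∀ x ∈ S, ∃ (t : ℤ) (s : ℤ), x = (D.a ^ (p ^ α)) ^ t * g ^ s := by
    intro x hx
    obtain ⟨i, j, rfl⟩ := D.hgen x
    have hjmem : (QuotientGroup.mk' (zpowers D.a) D.b) ^ ((j : ℤ)) ∈
        S.map (QuotientGroup.mk' (zpowers D.a)) := by
      refine ⟨_, hx, ?_⟩
      rw [zpow_natCast, ← map_pow, QuotientGroup.mk'_apply, QuotientGroup.mk'_apply,
        QuotientGroup.mk_mul, (QuotientGroup.eq_one_iff (D.a ^ i)).mpr (zpow_mem (mem_zpowers _) _), one_mul]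
    obtain ⟨q, hq⟩ := hβmin _ hjmem
    have hrem : D.a ^ i * D.b ^ j * (g ^ q)⁻¹ ∈ zpowers D.a ⊓ S := by
      refine ⟨?_, S.mul_mem hx (S.inv_mem (S.zpow_mem hgS q))⟩
      change D.a ^ i * D.b ^ j * (g ^ q)⁻¹ ∈ zpowers D.a
      rw [← QuotientGroup.eq_one_iff, hg, QuotientGroup.mk_mul, QuotientGroup.mk_mul,
        QuotientGroup.mk_inv, QuotientGroup.mk_zpow (zpowers D.a) (D.a ^ i₀ * D.b ^ p ^ β) q, QuotientGroup.mk_mul,
        (QuotientGroup.eq_one_iff (D.a ^ i)).mpr (zpow_mem (mem_zpowers _) _),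
        (QuotientGroup.eq_one_iff (D.a ^ i₀)).mpr (zpow_mem (mem_zpowers _) _), one_mul, one_mul,
        QuotientGroup.mk_pow, QuotientGroup.mk_pow, ← zpow_natCast, ← zpow_natCast, ← zpow_mul, hq,
        Nat.cast_pow, mul_inv_cancel]
    obtain ⟨t, ht⟩ := mem_zpowers_iff.mp hrem.1
    obtain ⟨t', rfl⟩ := hαmin t (ht ▸ hrem.2)
    refine ⟨t', q, ?_⟩
    rw [← zpow_natCast D.a, ← zpow_mul, Nat.cast_pow, ht]
    group
  have hαβ : α + β < D.n := by
    by_contra hle
    push Not at hle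
    apply hna
    have hc : Commute (D.a ^ (p ^ α)) g := by
      rw [commute_iff_det D, hg, ← zpow_natCast D.a, phi_a_zpow D hp2, phi_apply D hp2]
      obtain ⟨e, -, hje⟩ := gsum_eq_mul_unit hp2 (p ^ β) (r_sub_one_dvd D)
      simp only [det2, hje]
      push_cast
      obtain ⟨c, hc⟩ := Nat.exists_eq_add_of_le hle
      have : (p : Coord D) ^ α * (p : Coord D) ^ β = 0 := by
        rw [← pow_add, hc, pow_add, natCast_pow_eq_zero, zero_mul]
      linear_combination -e * this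
    refine ⟨⟨fun x y => Subtype.ext ?_⟩⟩
    obtain ⟨t, s, hx⟩ := hgen x x.2
    obtain ⟨t', s', hy⟩ := hgen y y.2
    simp only [coe_mul]
    rw [hx, hy]
    exact ((Commute.zpow_zpow_self _ t t').mul_right (hc.zpow_zpow t s')).mul_left
      ((hc.symm.zpow_zpow s t').mul_right (Commute.zpow_zpow_self _ s s')) |>.eq
  intro z hz
  obtain ⟨x, y, rfl⟩ := D.hgen z
  have hz0 : phi D (D.a ^ x * D.b ^ y) ∈ level p D.n D.n := by
    rw [(phi_eq_zero_iff D hp2 _).mpr hz]; exact Submodule.zero_mem _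
  obtain ⟨⟨x', rfl⟩, ⟨y', rfl⟩⟩ := (phi_zero_exponents D hp2 le_rfl).mp hz0
  have haS : D.a ^ ((p : ℤ) ^ D.n) ∈ S := by
    obtain ⟨c, hc⟩ := Nat.exists_eq_add_of_le (show α ≤ D.n by omega)
    rw [← Nat.cast_pow, zpow_natCast, hc, pow_add, pow_mul]
    exact S.pow_mem hα _
  refine mul_mem (by rw [zpow_mul]; exact S.zpow_mem haS _) ?_
  rw [pow_mul]
  refine S.pow_mem ?_ _
  have hpow : ∀ t : ℕ, g ^ t = D.a ^ (i₀ * gsum (D.r ^ (p ^ β)) t) * D.b ^ (p ^ β * t) := by
    intro t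
    induction t with
    | zero => simp [gsum_zero]
    | succ t ih =>
        rw [pow_succ', ih, hg, mul_formula, gsum_succ, Nat.mul_succ, add_comm (p ^ β * t)]
        congr 2
        ring
  have h1 := hpow (p ^ (D.n - β))
  have h2 : p ^ β * p ^ (D.n - β) = p ^ D.n := by
    rw [← pow_add, Nat.add_sub_cancel' (by omega)]
  rw [h2] at h1
  have h3 : (p : ℤ) ^ α ∣ i₀ * gsum (D.r ^ (p ^ β)) (p ^ (D.n - β)) := by
    apply dvd_mul_of_dvd_right
    rw [← pow_dvd_intCast_iff (p := p) (N := D.n) (show α ≤ D.n by omega)]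
    have := map_gsum (Int.castRingHom (Coord D)) (D.r ^ (p ^ β)) (p ^ (D.n - β))
    simp only [eq_intCast] at this
    rw [this]
    push_cast
    obtain ⟨e, -, he⟩ := gsum_eq_mul_unit hp2 (p ^ (D.n - β))
      (dvd_pow_sub_one (r_sub_one_dvd D) (p ^ β))
    rw [he]
    push_cast
    exact dvd_mul_of_dvd_left (pow_dvd_pow _ (by omega)) _
  obtain ⟨w, hw⟩ := h3
  have h4 : D.b ^ p ^ D.n = (D.a ^ ((p : ℤ) ^ α * w))⁻¹ * g ^ p ^ (D.n - β) := by
    rw [h1, hw]; group
  rw [h4]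
  refine S.mul_mem (S.inv_mem ?_) (S.pow_mem hgS _)
  rw [zpow_mul, ← Nat.cast_pow, zpow_natCast]
  exact S.zpow_mem hα w

theorem card_of_maximal_abelian [Finite G] {L : Subgroup G}
    (h : Maximal (fun K : Subgroup G => IsMulCommutative ↥K) L) :
    Nat.card L = (_root_.commutator G).index := by
  have hle : L ≤ centralizer (L : Set G) := le_centralizer_iff_isMulCommutative.mpr h.1
  have hCL : centralizer (L : Set G) ≤ L := by
    intro g hg
    have hab : IsMulCommutative ↥(closure (insert g (L : Set G))) := by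
      refine isMulCommutative_closure fun x hx y hy => ?_
      rcases hx with rfl | hx <;> rcases hy with rfl | hy
      · rfl
      · exact (mem_centralizer_iff.mp hg y hy).symm
      · exact mem_centralizer_iff.mp hg x hx
      · exact (mem_centralizer_iff.mp (hle hx) y hy).symm
    exact h.2 hab (fun x hx => Subgroup.subset_closure (Or.inr hx)) (Subgroup.subset_closure (Or.inl rfl))
  have heq := le_antisymm hle hCL
  have hZ : center G ≤ L := by rw [heq]; exact center_le_centralizer _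
  have hsq := (card_mul_card_centralizer D hp2 L).2.mpr hZ
  rw [← heq, card_group D hp2] at hsq
  rw [index_commutator D hp2]
  exact Nat.mul_self_inj.mp (hsq.trans (by ring))

theorem mem_frattini_iff [Finite G] (hn : D.n ≠ 0) (g : G) :
    g ∈ frattini G ↔ phi D g ∈ level p D.n 1 := by
  have hG : IsPGroup p G := IsPGroup.of_card D.hcard
  constructor
  · intro hg
    have key : ∀ a b : ℕ, a ≤ 1 → b ≤ 1 → a + b = 1 →
        g ∈ pre D hp2 (pbox (Frame.std (Coord D)) a b) := by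
      intro a b ha hb hab
      apply frattini_le_coatom ?_ hg
      have hidx : (pre D hp2 (pbox (Frame.std (Coord D)) a b)).index = p := by
        apply Nat.eq_of_mul_eq_mul_left
          (show 0 < Nat.card (pre D hp2 (pbox (Frame.std (Coord D)) a b)) from Nat.card_pos)
        rw [card_mul_index, card_pre, card_pbox _ (by omega) (by omega), card_group D hp2, mul_assoc,
          ← pow_succ]
        congr 2
        omega
      refine ⟨fun h => hp.out.one_lt.ne' (by rw [← hidx, h, index_top]), fun K hK => ?_⟩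
      have h1 := Nat.dvd_prime hp.out |>.mp (hidx ▸ index_dvd_of_le hK.le)
      rcases h1 with h1 | h1
      · exact index_eq_one.mp h1
      · exfalso
        apply hK.ne
        refine Subgroup.eq_of_le_of_card_ge hK.le (le_of_eq ?_)
        have e1 := card_mul_index K
        have e2 := card_mul_index (pre D hp2 (pbox (Frame.std (Coord D)) a b))
        rw [h1] at e1
        rw [hidx] at e2
        exact Nat.eq_of_mul_eq_mul_right hp.out.pos (e1.trans e2.symm)
    obtain ⟨h1, -⟩ := key 1 0 le_rfl zero_le_one rfl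
    obtain ⟨-, h2⟩ := key 0 1 zero_le_one le_rfl rfl
    simp only [bdet, Frame.std, mul_zero, sub_zero, zero_sub, mul_one, one_mul, zero_mul] at h1 h2
    exact mem_level.mpr ⟨h1, h2⟩
  · intro hg
    have hg' : g ∈ closure {x : G | ∃ y : G, y ^ p ^ 1 = x} := by
      rw [powers_eq D hp2 (by omega : 1 ≤ D.n)]; exact hg
    revert hg'
    suffices closure {x : G | ∃ y : G, y ^ p ^ 1 = x} ≤ frattini G from fun h => this h
    rw [closure_le]
    rintro _ ⟨y, rfl⟩
    rw [SetLike.mem_coe, frattini, Order.radical]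
    simp only [mem_iInf]
    intro M hM
    haveI hMn : M.Normal := NormalizerCondition.normal_of_coatom M
      (normalizerCondition_of_isNilpotent (G := G) (h := hG.isNilpotent)) hM
    obtain ⟨k, hk⟩ := (Nat.dvd_prime_pow hp.out).mp (D.hcard ▸ M.index_dvd_card)
    have hk1 : k ≠ 0 := fun h => hM.1 (index_eq_one.mp (by rw [hk.2, h, pow_zero]))
    obtain ⟨q, hq⟩ := exists_prime_orderOf_dvd_card' (G := G ⧸ M) p
      (by rw [← index_eq_card, hk.2]; exact dvd_pow_self p hk1)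
    obtain ⟨q, rfl⟩ := QuotientGroup.mk_surjective q
    have hqM : q ∉ M := fun h => hp.out.one_lt.ne' (by
      rw [← hq, (QuotientGroup.eq_one_iff q).mpr h, orderOf_one])
    have htop : M ⊔ zpowers q = ⊤ := hM.2 _ (lt_of_le_of_ne le_sup_left fun h => hqM
      (h ▸ le_sup_right (a := M) (mem_zpowers q)))
    rw [← QuotientGroup.eq_one_iff, QuotientGroup.mk_pow, pow_one]
    have hy : (y : G ⧸ M) ∈ zpowers (q : G ⧸ M) := by
      have h1 : (y : G ⧸ M) ∈ (⊤ : Subgroup G).map (QuotientGroup.mk' M) := ⟨y, trivial, rfl⟩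
      rw [← htop, Subgroup.map_sup, QuotientGroup.map_mk'_self, bot_sup_eq,
        MonoidHom.map_zpowers] at h1
      exact h1
    obtain ⟨t, ht⟩ := mem_zpowers_iff.mp hy
    have hq1 : (q : G ⧸ M) ^ p = 1 := by rw [← hq, pow_orderOf_eq_one]
    rw [← ht, ← zpow_natCast, ← zpow_mul, mul_comm, zpow_mul, zpow_natCast, hq1, one_zpow]

omit hp2 in
theorem pow_formula (i : ℤ) (j : ℕ) : ∀ t : ℕ,
    (D.a ^ i * D.b ^ j) ^ t = D.a ^ (i * gsum (D.r ^ j) t) * D.b ^ (j * t) := by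
  intro t
  induction t with
  | zero => simp [gsum_zero]
  | succ t ih =>
      rw [pow_succ', ih, mul_formula, gsum_succ, Nat.mul_succ, add_comm (j * t)]
      congr 2
      ring

theorem dvd_r_sub_one (hm : D.m ≠ 0) : (p : ℤ) ∣ D.r - 1 := by
  rw [D.hr]
  have h : D.m - D.n ≠ 0 := by
    rcases Nat.eq_zero_or_pos D.n with h | h
    · omega
    · have := D.hlt h.ne'; omega
  simpa using dvd_mul_of_dvd_left (dvd_pow_self (p : ℤ) h) D.u

theorem exists_gsum_unit (j t : ℕ) : ∃ e : ZMod (p ^ D.m), IsUnit e ∧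
    ((gsum (D.r ^ j) t : ℤ) : ZMod (p ^ D.m)) = t * e ∧
    ∀ y : ZMod (p ^ D.m), ∃ s : ℕ, ((gsum (D.r ^ j) s : ℤ) : ZMod (p ^ D.m)) = y := by
  rcases Nat.eq_zero_or_pos D.m with hm | hm
  · haveI : Subsingleton (ZMod (p ^ D.m)) := by rw [hm, pow_zero]; infer_instance
    exact ⟨1, isUnit_one, Subsingleton.elim _ _, fun y => ⟨0, Subsingleton.elim _ _⟩⟩
  have hx : (p : ZMod (p ^ D.m)) ∣ ((D.r ^ j : ℤ) : ZMod (p ^ D.m)) - 1 := by
    push_cast
    refine dvd_pow_sub_one ?_ j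
    have := map_dvd (Int.castRingHom (ZMod (p ^ D.m))) (dvd_r_sub_one D hp2 hm.ne')
    simpa using this
  have hmap : ∀ s, ((gsum (D.r ^ j) s : ℤ) : ZMod (p ^ D.m)) =
      gsum ((D.r ^ j : ℤ) : ZMod (p ^ D.m)) s := fun s =>
    map_gsum (Int.castRingHom (ZMod (p ^ D.m))) (D.r ^ j) s
  obtain ⟨e, he, het⟩ := gsum_eq_mul_unit hp2 t hx
  refine ⟨e, isUnit_of_dvd_sub_one he, (hmap t).trans het, fun y => ?_⟩
  obtain ⟨s, hs⟩ := gsum_surjective hp2 hx y
  exact ⟨s, (hmap s).trans hs⟩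

omit hp2 in
theorem zpow_a_congr {x y : ℤ} (h : (x : ZMod (p ^ D.m)) = (y : ZMod (p ^ D.m))) :
    D.a ^ x = D.a ^ y := by
  rw [ZMod.intCast_eq_intCast_iff, ← D.hord] at h
  exact zpow_eq_zpow_iff_modEq.mpr h

omit hp2 in
theorem cyclic_pair [Finite G] (c d : G)
    (hgen : ∀ g : G, ∃ x ∈ zpowers c, ∃ y ∈ zpowers d, g = x * y)
    {A B : ℕ} (hc : c ^ A = 1) (hd : d ^ B = 1) (hA : 0 < A) (hB : 0 < B) (hAB : A * B = Nat.card G) :
    ∃ X Y : Subgroup G, IsCyclic ↥X ∧ IsCyclic ↥Y ∧ X ⊓ Y = ⊥ ∧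
      Nat.card ↥X * Nat.card ↥Y = Nat.card G := by
  refine ⟨zpowers c, zpowers d, inferInstance, inferInstance, ?_⟩
  have hsurj : Function.Surjective (fun q : zpowers c × zpowers d => (q.1 : G) * q.2) := by
    intro g
    obtain ⟨x, hx, y, hy, rfl⟩ := hgen g
    exact ⟨(⟨x, hx⟩, ⟨y, hy⟩), rfl⟩
  have hle : Nat.card (zpowers c × zpowers d) ≤ Nat.card G := by
    rw [Nat.card_prod, Nat.card_zpowers, Nat.card_zpowers, ← hAB]
    exact Nat.mul_le_mul (Nat.le_of_dvd hA (orderOf_dvd_of_pow_eq_one hc))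
      (Nat.le_of_dvd hB (orderOf_dvd_of_pow_eq_one hd))
  have hcard : Nat.card (zpowers c × zpowers d) = Nat.card G :=
    le_antisymm hle (Nat.card_le_card_of_surjective _ hsurj)
  have hbij := (Nat.bijective_iff_surjective_and_card _).mpr ⟨hsurj, hcard⟩
  refine ⟨?_, by rw [← hcard, Nat.card_prod]⟩
  rw [eq_bot_iff]
  intro x hx
  have h : ((⟨x, hx.1⟩ : zpowers c), (⟨x⁻¹, inv_mem hx.2⟩ : zpowers d)) = (1, 1) :=
    hbij.1 (by simp)
  exact congrArg (fun q => ((q.1 : zpowers c) : G)) h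

theorem exists_factorisation [Finite G] :
    ∃ X Y : Subgroup G, IsCyclic ↥X ∧ IsCyclic ↥Y ∧ X ⊓ Y = ⊥ ∧
      Nat.card ↥X * Nat.card ↥Y = Nat.card G := by
  obtain ⟨z, hz⟩ := mem_zpowers_iff.mp D.hk
  have hpos : ∀ e : ℕ, 0 < p ^ e := fun e => pow_pos hp.out.pos e
  obtain ⟨t, w₀, htm, hw₀, hzt⟩ := exists_pow_mul_unit ((z : ℤ) : ZMod (p ^ D.m))
  have ham : D.a ^ (p ^ D.m) = 1 := by rw [← D.hord, pow_orderOf_eq_one]
  rcases le_or_gt D.k t with hkt | htk
  · -- split case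
    obtain ⟨e, he, heq, -⟩ := exists_gsum_unit D hp2 1 (p ^ D.k)
    obtain ⟨e', rfl⟩ := he
    obtain ⟨i, hi⟩ := ZMod.intCast_surjective
      (-((p : ZMod (p ^ D.m)) ^ (t - D.k) * w₀ * (↑e'⁻¹ : ZMod (p ^ D.m))))
    have hb' : (D.a ^ i * D.b ^ 1) ^ (p ^ D.k) = 1 := by
      rw [pow_formula, one_mul, ← hz, ← zpow_add]
      rw [show (1 : G) = D.a ^ (0 : ℤ) by rw [zpow_zero]]
      apply zpow_a_congr
      push_cast at heq ⊢
      rw [heq, hi, hzt]
      have : (p : ZMod (p ^ D.m)) ^ t = (p : ZMod (p ^ D.m)) ^ (t - D.k) * (p : ZMod (p ^ D.m)) ^ D.k := by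
        rw [← pow_add, Nat.sub_add_cancel hkt]
      rw [this]
      have hu := Units.inv_mul e'
      linear_combination (-(p : ZMod (p ^ D.m)) ^ (t - D.k) * w₀ * (p : ZMod (p ^ D.m)) ^ D.k) * hu
    refine cyclic_pair D D.a (D.a ^ i * D.b ^ 1) ?_ ham hb' (hpos _) (hpos _)
      (by rw [D.hcard, pow_add])
    intro g
    obtain ⟨x, y, rfl⟩ := D.hgen g
    refine ⟨_, zpow_mem (mem_zpowers D.a) (x - i * gsum (D.r ^ 1) y), _,
      pow_mem (mem_zpowers (D.a ^ i * D.b ^ 1)) y, ?_⟩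
    rw [pow_formula, one_mul, ← mul_assoc, ← zpow_add, sub_add_cancel]
  · rcases Nat.eq_zero_or_pos t with ht0 | ht0
    · -- cyclic
      subst ht0
      rw [pow_zero, one_mul] at hzt
      obtain ⟨u₀, hu₀⟩ := hw₀
      obtain ⟨v, hv⟩ := ZMod.intCast_surjective (↑u₀⁻¹ : ZMod (p ^ D.m))
      have ha : D.a = D.b ^ (((p ^ D.k : ℕ) : ℤ) * v) := by
        rw [zpow_mul, zpow_natCast, ← hz, ← zpow_mul]
        conv_lhs => rw [← zpow_one D.a]
        apply zpow_a_congr
        push_cast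
        rw [hzt, ← hu₀, hv, Units.mul_inv]
      have hb : D.b ^ (p ^ (D.m + D.k)) = 1 := by rw [← D.hcard]; exact pow_card_eq_one'
      refine cyclic_pair D 1 D.b ?_ (one_pow 1) hb zero_lt_one (hpos _) (by rw [D.hcard, one_mul])
      intro g
      obtain ⟨x, y, rfl⟩ := D.hgen g
      refine ⟨1, one_mem _, _, ?_, (one_mul _).symm⟩
      rw [ha]
      exact mul_mem (zpow_mem (zpow_mem (mem_zpowers _) _) _) (pow_mem (mem_zpowers _) _)
    · set q := p ^ (D.k - t) * (p ^ t - 1) with hq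
      obtain ⟨e, he, heq, hsurj⟩ := exists_gsum_unit D hp2 q (p ^ t)
      obtain ⟨e', rfl⟩ := he
      obtain ⟨w, hw⟩ := ZMod.intCast_surjective
        (-(((p ^ t - 1 : ℕ) : ZMod (p ^ D.m)) * w₀ * (↑e'⁻¹ : ZMod (p ^ D.m))))
      have hwu : IsUnit ((w : ZMod (p ^ D.m))) := by
        rw [hw]
        refine ((IsUnit.mul (isUnit_natCast_of_coprime fun h => ?_) hw₀).mul (Units.isUnit _)).neg
        have h1 : p ∣ p ^ t := dvd_pow_self p ht0.ne'
        have := Nat.dvd_sub h1 h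
        rw [Nat.sub_sub_self (hpos t)] at this
        exact hp.out.one_lt.ne' (Nat.eq_one_of_dvd_one this)
      have hqt : q * p ^ t = p ^ D.k * (p ^ t - 1) := by
        rw [hq, mul_right_comm, ← pow_add, Nat.sub_add_cancel htk.le]
      have hc : (D.a ^ w * D.b ^ q) ^ (p ^ t) = 1 := by
        rw [pow_formula, hqt, pow_mul D.b, ← hz, ← zpow_natCast (D.a ^ z), ← zpow_mul, ← zpow_add,
          show (1 : G) = D.a ^ (0 : ℤ) by rw [zpow_zero]]
        apply zpow_a_congr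
        have hp1 : (((p ^ t - 1 : ℕ) : ℤ) : ZMod (p ^ D.m)) = ((p ^ t - 1 : ℕ) : ZMod (p ^ D.m)) :=
          Int.cast_natCast _
        push_cast [hp1]
        push_cast at heq
        rw [heq, hw, hzt]
        have hu := Units.inv_mul e'
        linear_combination (-((p ^ t - 1 : ℕ) : ZMod (p ^ D.m)) * w₀ * (p : ZMod (p ^ D.m)) ^ t) * hu
      have hd : D.b ^ (p ^ (D.k + (D.m - t))) = 1 := by
        rw [pow_add, pow_mul, ← hz, ← zpow_natCast, ← zpow_mul,
          show (1 : G) = D.a ^ (0 : ℤ) by rw [zpow_zero]]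
        apply zpow_a_congr
        push_cast
        rw [hzt, mul_right_comm, ← pow_add, Nat.add_sub_cancel' htm, natCast_pow_eq_zero, zero_mul]
      refine cyclic_pair D (D.a ^ w * D.b ^ q) D.b ?_ hc hd (hpos _) (hpos _) (by
        rw [D.hcard, ← pow_add]; congr 1; omega)
      intro g
      obtain ⟨x, y, rfl⟩ := D.hgen g
      obtain ⟨w', hw'⟩ := hwu
      obtain ⟨s, hs⟩ := hsurj (↑w'⁻¹ * (x : ZMod (p ^ D.m)))
      refine ⟨_, pow_mem (mem_zpowers (D.a ^ w * D.b ^ q)) s, (D.b ^ (q * s))⁻¹ * D.b ^ y,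
        mul_mem (inv_mem (pow_mem (mem_zpowers _) _)) (pow_mem (mem_zpowers _) _), ?_⟩
      rw [pow_formula, ← mul_assoc, mul_inv_cancel_right]
      congr 1
      apply zpow_a_congr
      push_cast at hs ⊢
      rw [hs, ← hw', ← mul_assoc, Units.mul_inv, one_mul]

end Cfsg.Agent.MetacyclicP
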