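import Cfsg.Agent.MetacyclicP.Basic
import Cfsg.Agent.MetacyclicP.Box
import Mathlib.GroupTheory.Abelianization.Defs

/-!
Centralisers, abelian subgroups, derived subgroup and centre of a metacyclic `p`-group, `p` odd.
-/

set_option autoImplicit false

namespace Cfsg.Agent.MetacyclicP

open Subgroup Box
open scoped commutatorElement

variable {G : Type*} [Group G] {p : ℕ} [hp : Fact p.Prime] (D : Data p G) (hp2 : p ≠ 2)

omit hp in
theorem det2_eq_bdet (v w : Plane D) : det2 v w = bdet v w := rfl

include D hp2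

theorem centralizer_eq (S : Subgroup G) :
    centralizer (S : Set G) = pre D hp2 (perp (img D hp2 S : Set (Plane D))) := by
  ext g
  rw [mem_centralizer_iff, mem_pre, mem_perp]
  constructor
  · rintro h w ⟨x, hx, rfl⟩
    exact (commute_iff_det D x g).mp (h x hx)
  · intro h x hx
    exact ((commute_iff_det D x g).mpr (h _ ⟨x, hx, rfl⟩)).eq

theorem isMulCommutative_iff (S : Subgroup G) :
    IsMulCommutative ↥S ↔ img D hp2 S ≤ perp (img D hp2 S : Set (Plane D)) := by
  rw [← le_centralizer_iff_isMulCommutative, centralizer_eq D hp2 S]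
  constructor
  · rintro h v ⟨g, hg, rfl⟩
    exact h hg
  · intro h g hg
    exact h ⟨g, hg, rfl⟩

theorem isMulCommutative_pre_iff (W : Submodule (Coord D) (Plane D)) :
    IsMulCommutative ↥(pre D hp2 W) ↔ W ≤ perp (W : Set (Plane D)) := by
  rw [isMulCommutative_iff D hp2, img_pre]

theorem card_plane : Nat.card (Plane D) = p ^ (2 * D.n) := by
  rw [Nat.card_prod, Nat.card_zmod, two_mul, pow_add]

theorem card_group : Nat.card G = Nat.card (center G) * p ^ (2 * D.n) := by
  rw [Nat.card_congr (splitEquiv D hp2), Nat.card_prod, card_plane D hp2]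

theorem index_center [Finite G] : (center G).index = p ^ (2 * D.n) := by
  apply Nat.eq_of_mul_eq_mul_left (show 0 < Nat.card ↥(center G) from Nat.card_pos)
  rw [card_mul_index]
  exact card_group D hp2

omit hp2 in
theorem commutatorElement_b_a : ⁅D.b, D.a⁆ = D.a ^ (((p : ℤ) ^ (D.m - D.n)) * D.u) := by
  rw [commutatorElement_def, D.hconj, D.hr, zpow_add, zpow_one]
  group

omit hp2 in
theorem card_commutator [Finite G] : Nat.card ↥(_root_.commutator G) = p ^ D.n := by
  set c := D.a ^ (p ^ (D.m - D.n)) with hc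
  have hu : Int.gcd D.u ((p ^ D.m : ℕ) : ℤ) = 1 := by
    rw [← Int.isCoprime_iff_gcd_eq_one]
    push_cast
    exact ((Nat.prime_iff_prime_int.mp hp.out).coprime_iff_not_dvd.mpr D.hu).symm.pow_right
  have hcu : zpowers (c ^ D.u) = zpowers c := by
    apply le_antisymm (zpowers_le.mpr (zpow_mem (mem_zpowers c) _))
    apply zpowers_le.mpr
    have hb := Int.gcd_eq_gcd_ab D.u ((p ^ D.m : ℕ) : ℤ)
    rw [hu] at hb
    have h1 : c = (c ^ D.u) ^ Int.gcdA D.u ((p ^ D.m : ℕ) : ℤ) := by
      have h2 : c ^ ((p ^ D.m : ℕ) : ℤ) = 1 := by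
        rw [zpow_natCast, hc, pow_right_comm, ← D.hord, pow_orderOf_eq_one, one_pow]
      calc c = c ^ ((1 : ℕ) : ℤ) := by simp
        _ = _ := by rw [hb, zpow_add, zpow_mul, zpow_mul, h2, one_zpow, mul_one]
    exact mem_zpowers_iff.mpr ⟨_, h1.symm⟩
  have hconj : ∀ g : G, g * c * g⁻¹ ∈ zpowers c := by
    intro g
    obtain ⟨i, j, rfl⟩ := D.hgen g
    refine mem_zpowers_iff.mpr ⟨D.r ^ j, ?_⟩
    have h1 : D.b ^ j * c * (D.b ^ j)⁻¹ = D.a ^ (D.r ^ j * ((p ^ (D.m - D.n) : ℕ) : ℤ)) := by
      rw [← conj_zpow_iter D.hconj, zpow_natCast]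
    calc c ^ (D.r ^ j) = D.a ^ (D.r ^ j * ((p ^ (D.m - D.n) : ℕ) : ℤ)) := by
          rw [hc, ← zpow_natCast D.a, ← zpow_mul, mul_comm]
      _ = D.a ^ i * D.a ^ (D.r ^ j * ((p ^ (D.m - D.n) : ℕ) : ℤ)) * (D.a ^ i)⁻¹ := by
          rw [(Commute.zpow_zpow_self D.a i _).eq]; group
      _ = _ := by rw [← h1]; group
  haveI hnorm : (zpowers c).Normal := ⟨fun x hx g => by
    obtain ⟨k, rfl⟩ := mem_zpowers_iff.mp hx
    have := map_zpow (MulAut.conj g) c k
    rw [MulAut.conj_apply, MulAut.conj_apply] at this
    rw [this]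
    exact zpow_mem (hconj g) k⟩
  have hcomm : _root_.commutator G = zpowers c := by
    apply le_antisymm
    · haveI : IsMulCommutative (G ⧸ zpowers c) := by
        refine ⟨⟨fun x y => ?_⟩⟩
        obtain ⟨x, rfl⟩ := QuotientGroup.mk_surjective x
        obtain ⟨y, rfl⟩ := QuotientGroup.mk_surjective y
        have hab : Commute (D.a : G ⧸ zpowers c) (D.b : G ⧸ zpowers c) := by
          have hmem : ⁅D.b, D.a⁆ ∈ zpowers c := by
            rw [commutatorElement_b_a, zpow_mul, ← Nat.cast_pow, zpow_natCast, ← hc]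
            exact zpow_mem (mem_zpowers c) _
          rw [← QuotientGroup.eq_one_iff] at hmem
          have h2 : ⁅(D.b : G ⧸ zpowers c), (D.a : G ⧸ zpowers c)⁆ = 1 := by
            rw [← hmem]; rfl
          exact (commutatorElement_eq_one_iff_commute.mp h2).symm
        obtain ⟨i, j, rfl⟩ := D.hgen x
        obtain ⟨k, l, rfl⟩ := D.hgen y
        simp only [QuotientGroup.mk_mul, QuotientGroup.mk_zpow, QuotientGroup.mk_pow]
        exact ((Commute.zpow_zpow_self _ i k).mul_right ((hab.zpow_left i).pow_right l)).mul_left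
          (((hab.symm.pow_left j).zpow_right k).mul_right (Commute.pow_pow_self _ j l)) |>.eq
      exact Normal.quotient_commutative_iff_commutator_le.mp inferInstance
    · rw [← hcu]
      apply zpowers_le.mpr
      have : c ^ D.u = ⁅D.b, D.a⁆ := by
        rw [commutatorElement_b_a, zpow_mul, ← Nat.cast_pow, zpow_natCast]
      rw [this]
      exact Subgroup.commutator_mem_commutator (mem_top _) (mem_top _)
  rw [hcomm, Nat.card_zpowers, hc, orderOf_pow, D.hord,
    Nat.gcd_eq_right (Nat.pow_dvd_pow p (Nat.sub_le _ _)), Nat.pow_div (Nat.sub_le _ _) hp.out.pos,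
    Nat.sub_sub_self D.hnm]

theorem index_commutator [Finite G] :
    (_root_.commutator G).index = Nat.card (center G) * p ^ D.n := by
  apply Nat.eq_of_mul_eq_mul_left (show 0 < Nat.card ↥(_root_.commutator G) from Nat.card_pos)
  rw [card_mul_index, card_group D hp2, card_commutator D, two_mul, pow_add]
  ring

theorem card_le_card_pre [Finite G] (S : Subgroup G) :
    Nat.card S ≤ Nat.card (center G) * Nat.card (img D hp2 S) := by
  rw [← card_pre D hp2]
  exact card_le_of_le (le_pre_img D hp2 S)

theorem center_le_of_card [Finite G] {S : Subgroup G}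
    (h : Nat.card (center G) * Nat.card (img D hp2 S) ≤ Nat.card S) : center G ≤ S := by
  have := Subgroup.eq_of_le_of_card_ge (le_pre_img D hp2 S) (by rwa [card_pre])
  rw [this]; exact center_le_pre D hp2 _

theorem abelian_card_le [Finite G] {S : Subgroup G} (h : IsMulCommutative ↥S) :
    Nat.card S ≤ (_root_.commutator G).index := by
  rw [index_commutator D hp2]
  exact (card_le_card_pre D hp2 S).trans
    (Nat.mul_le_mul_left _ ((isotropic_iff_card _).mp ((isMulCommutative_iff D hp2 S).mp h)))

theorem centralizer_centralizer_eq {S : Subgroup G} (h : center G ≤ S) :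
    centralizer (centralizer (S : Set G) : Set G) = S := by
  rw [centralizer_eq D hp2 (centralizer (S : Set G)), centralizer_eq D hp2 S, img_pre, perp_perp,
    ← eq_pre_img D hp2 h]

theorem card_mul_card_centralizer [Finite G] (S : Subgroup G) :
    Nat.card S * Nat.card (centralizer (S : Set G)) ≤ Nat.card G * Nat.card (center G) ∧
    (Nat.card S * Nat.card (centralizer (S : Set G)) = Nat.card G * Nat.card (center G) ↔
      center G ≤ S) := by
  have hC : Nat.card (centralizer (S : Set G)) =
      Nat.card (center G) * Nat.card (perp (img D hp2 S : Set (Plane D))) := by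
    rw [centralizer_eq D hp2 S, card_pre]
  have htot : Nat.card (center G) * Nat.card (img D hp2 S) * Nat.card (centralizer (S : Set G)) =
      Nat.card G * Nat.card (center G) := by
    rw [hC, card_group D hp2, ← card_mul_card_perp (img D hp2 S)]; ring
  refine ⟨htot ▸ Nat.mul_le_mul_right _ (card_le_card_pre D hp2 S), fun h => ?_, fun h => ?_⟩
  · refine center_le_of_card D hp2 (le_of_eq ?_)
    exact Nat.eq_of_mul_eq_mul_right Nat.card_pos (htot.trans h.symm)
  · rw [← htot, ← card_pre D hp2, ← eq_pre_img D hp2 h]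

theorem centralizer_singleton_eq (g : G) :
    centralizer ({g} : Set G) =
      pre D hp2 (perp (Submodule.span (Coord D) {phi D g} : Set (Plane D))) := by
  ext x
  rw [mem_centralizer_iff, mem_pre, mem_perp]
  constructor
  · intro h w hw
    obtain ⟨c, rfl⟩ := Submodule.mem_span_singleton.mp hw
    have h1 := (commute_iff_det D g x).mp (h g rfl)
    rw [det2_eq_bdet] at h1
    simp only [bdet] at h1 ⊢
    simp only [Prod.smul_fst, Prod.smul_snd, smul_eq_mul]
    linear_combination c * h1
  · rintro h y rfl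
    exact ((commute_iff_det D y x).mpr (h _ (Submodule.mem_span_singleton_self _))).eq

theorem index_centralizer_singleton [Finite G] (g : G) :
    (centralizer ({g} : Set G)).index = Nat.card (Submodule.span (Coord D) {phi D g}) := by
  apply Nat.eq_of_mul_eq_mul_left (show 0 < Nat.card (centralizer ({g} : Set G)) from Nat.card_pos)
  rw [card_mul_index, centralizer_singleton_eq D hp2, card_pre, card_group D hp2,
    ← card_mul_card_perp (Submodule.span (Coord D) {phi D g})]
  ring

theorem index_centralizer_spec [Finite G] (g : G) : ∃ c, c ≤ D.n ∧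
    (centralizer ({g} : Set G)).index = p ^ (D.n - c) ∧
    ∀ s, s ≤ D.n → (phi D g ∈ level p D.n s ↔ s ≤ c) := by
  obtain ⟨c, h1, h2, h3⟩ := span_singleton_structure (phi D g)
  exact ⟨c, h1, by rw [index_centralizer_singleton D hp2]; exact h2, h3⟩

theorem centralizer_index_le_iff [Finite G] (g : G) {s : ℕ} (hs : s ≤ D.n) :
    (centralizer ({g} : Set G)).index ≤ p ^ (D.n - s) ↔ phi D g ∈ level p D.n s := by
  obtain ⟨c, h1, h2, h3⟩ := index_centralizer_spec D hp2 g
  rw [h2, h3 s hs, Nat.pow_le_pow_iff_right hp.out.one_lt]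
  omega

theorem n_pos_of_not_commutative (h : ¬ IsMulCommutative G) : D.n ≠ 0 := by
  intro hn
  apply h
  refine ⟨⟨fun x y => ((commute_iff_det D x y).mpr ?_).eq⟩⟩
  haveI : Subsingleton (Coord D) := by
    rw [Coord, hn, pow_zero]; infer_instance
  exact Subsingleton.elim _ _

end Cfsg.Agent.MetacyclicP
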